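import Mathlib
set_option linter.all false
/-!
# Linear operators of prime order

`V` is a finite-dimensional space over a field `F` and `x : Module.End F V`. Invariant subspaces,
relative complements (Maschke), the splitting `W = C_W(x) ⊕ [W, x]`, and, when `F` is finite and
`x ^ r = 1` with `r` a prime different from the characteristic, the divisibility
`orderOf (card F : ZMod r) ∣ finrank W` for invariant `W` without fixed vectors.
-/

set_option autoImplicit false

namespace Cfsg.Agent.H951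

open Module Polynomial

section Basic

variable {F V : Type*} [Field F] [AddCommGroup V] [Module F V]

/-- `W` is invariant under `x`. -/
def Inv (x : Module.End F V) (W : Submodule F V) : Prop := ∀ w ∈ W, x w ∈ W

/-- `W` is a minimal non-zero invariant subspace. -/
def Irr (x : Module.End F V) (W : Submodule F V) : Prop :=
  W ≠ ⊥ ∧ Inv x W ∧ ∀ U : Submodule F V, U ≤ W → Inv x U → U = ⊥ ∨ U = W

/-- The fixed space of `x`. -/
def fx (x : Module.End F V) : Submodule F V := LinearMap.ker (x - 1)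

/-- The commutator space `[V, x]`. -/
def cm (x : Module.End F V) : Submodule F V := LinearMap.range (x - 1)

variable {x : Module.End F V} {W U : Submodule F V}

lemma mem_fx {v : V} : v ∈ fx x ↔ x v = v := by
  simp [fx, LinearMap.mem_ker, sub_eq_zero]

lemma mem_cm {v : V} : v ∈ cm x ↔ ∃ w, x w - w = v := by
  simp [cm, LinearMap.mem_range]

lemma inv_iff_map : Inv x W ↔ W.map x ≤ W := by
  rw [Submodule.map_le_iff_le_comap]; rfl

lemma Inv.inf (hW : Inv x W) (hU : Inv x U) : Inv x (W ⊓ U) :=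
  fun w hw => ⟨hW w hw.1, hU w hw.2⟩

lemma Inv.sup (hW : Inv x W) (hU : Inv x U) : Inv x (W ⊔ U) := by
  rw [inv_iff_map] at *
  rw [Submodule.map_sup]
  exact sup_le_sup hW hU

lemma Inv.iSup {ι : Sort*} {D : ι → Submodule F V} (h : ∀ i, Inv x (D i)) : Inv x (⨆ i, D i) := by
  rw [inv_iff_map, Submodule.map_iSup]
  exact iSup_mono fun i => (inv_iff_map.1 (h i))

lemma inv_bot : Inv x ⊥ := by
  intro w hw; rw [Submodule.mem_bot] at hw; simp [hw]

lemma inv_top : Inv x ⊤ := fun _ _ => Submodule.mem_top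

lemma inv_fx : Inv x (fx x) := by
  intro w hw; rw [mem_fx] at *; rw [hw, hw]

lemma inv_cm : Inv x (cm x) := by
  intro w hw
  obtain ⟨u, rfl⟩ := mem_cm.1 hw
  exact mem_cm.2 ⟨x u, by rw [map_sub]⟩

lemma inv_of_le_fx (h : W ≤ fx x) : Inv x W := by
  intro w hw; rw [mem_fx.1 (h hw)]; exact hw

lemma Inv.pow (hW : Inv x W) (n : ℕ) : Inv (x ^ n) W := by
  induction n with
  | zero => intro w hw; simpa using hw
  | succ n ih => intro w hw; rw [pow_succ', Module.End.mul_apply]; exact hW _ (ih w hw)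

lemma Inv.aeval (hW : Inv x W) (f : F[X]) : Inv (aeval x f) W := by
  intro w hw
  induction f using Polynomial.induction_on' with
  | add p q hp hq => rw [map_add, LinearMap.add_apply]; exact W.add_mem hp hq
  | monomial n a =>
    rw [aeval_monomial, Module.End.mul_apply, Module.algebraMap_end_apply]
    exact W.smul_mem _ (hW.pow n w hw)

/-- Every non-zero invariant subspace of finite dimension contains a minimal one. -/
lemma exists_irr [FiniteDimensional F V] (hW : Inv x W) (h0 : W ≠ ⊥) : ∃ U ≤ W, Irr x U := by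
  induction hn : finrank F W using Nat.strong_induction_on generalizing W with
  | _ n ih =>
    by_cases h : ∀ U : Submodule F V, U ≤ W → Inv x U → U = ⊥ ∨ U = W
    · exact ⟨W, le_rfl, h0, hW, h⟩
    · push Not at h
      obtain ⟨U, hUW, hU, hU0, hUne⟩ := h
      have hlt : finrank F U < n := hn ▸ Submodule.finrank_lt_finrank_of_lt (lt_of_le_of_ne hUW hUne)
      obtain ⟨T, hT, hTi⟩ := ih _ hlt hU hU0 rfl
      exact ⟨T, hT.trans hUW, hTi⟩

/-- Relative invariant complements for a semisimple operator. -/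
lemma exists_rel_compl (hss : x.IsSemisimple) (hW : Inv x W) (hU : Inv x U) (hWU : W ≤ U) :
    ∃ T : Submodule F V, Inv x T ∧ T ≤ U ∧ W ⊓ T = ⊥ ∧ W ⊔ T = U := by
  obtain ⟨q, hq, hc⟩ := Module.End.isSemisimple_iff.1 hss W ((Module.End.mem_invtSubmodule _).2 hW)
  rw [Module.End.mem_invtSubmodule] at hq
  have hq' : Inv x q := hq
  refine ⟨q ⊓ U, hq'.inf hU, inf_le_right, ?_, ?_⟩
  · rw [← inf_assoc, hc.inf_eq_bot, bot_inf_eq]
  · rw [← sup_inf_assoc_of_le q hWU, hc.sup_eq_top, top_inf_eq]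

lemma finrank_sup_of_disj [FiniteDimensional F V] (h : W ⊓ U = ⊥) :
    finrank F ↥(W ⊔ U) = finrank F W + finrank F U := by
  have := Submodule.finrank_sup_add_finrank_inf_eq W U
  rw [h, finrank_bot, add_zero] at this
  exact this

lemma exists_sub [FiniteDimensional F V] (W : Submodule F V) {a : ℕ} (ha : a ≤ finrank F W) :
    ∃ U ≤ W, finrank F U = a := by
  obtain ⟨f, hf⟩ := exists_linearIndependent_of_le_finrank (R := F) (M := W) ha
  have hf' : LinearIndependent F (fun i => (f i : V)) :=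
    hf.map' W.subtype (Submodule.ker_subtype W)
  refine ⟨Submodule.span F (Set.range fun i => (f i : V)), ?_, ?_⟩
  · rw [Submodule.span_le]
    rintro _ ⟨i, rfl⟩
    exact (f i).2
  · rw [finrank_span_eq_card hf', Fintype.card_fin]

lemma exists_rel_compl' (hWU : W ≤ U) : ∃ T : Submodule F V, T ≤ U ∧ W ⊓ T = ⊥ ∧ W ⊔ T = U := by
  obtain ⟨q, hc⟩ := W.exists_isCompl
  refine ⟨q ⊓ U, inf_le_right, ?_, ?_⟩
  · rw [← inf_assoc, hc.inf_eq_bot, bot_inf_eq]
  · rw [← sup_inf_assoc_of_le q hWU, hc.sup_eq_top, top_inf_eq]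

lemma exists_split [FiniteDimensional F V] (W : Submodule F V) {a b : ℕ} (hab : finrank F W = a + b) :
    ∃ W₁ W₂ : Submodule F V, finrank F W₁ = a ∧ finrank F W₂ = b ∧ W₁ ⊓ W₂ = ⊥ ∧ W₁ ⊔ W₂ = W := by
  obtain ⟨W₁, h1, h2⟩ := exists_sub W (a := a) (by omega)
  obtain ⟨W₂, h3, h4, h5⟩ := exists_rel_compl' h1
  refine ⟨W₁, W₂, h2, ?_, h4, h5⟩
  have := finrank_sup_of_disj h4
  rw [h5, hab, h2] at this
  omega

end Basic

section PrimeOrder

variable {F V : Type*} [Field F] [AddCommGroup V] [Module F V]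
variable {x : Module.End F V} {W U : Submodule F V} {r : ℕ}

lemma semisimple_of_pow (hr : (r : F) ≠ 0) (hx : x ^ r = 1) : x.IsSemisimple := by
  refine Module.End.isSemisimple_of_squarefree_aeval_eq_zero (p := X ^ r - 1)
    (X_pow_sub_one_separable_iff.2 hr).squarefree ?_
  simp [hx]

/-- The averaging operator `∑_{j<r} x ^ j`. -/
noncomputable def avg (x : Module.End F V) (r : ℕ) : Module.End F V := ∑ j ∈ Finset.range r, x ^ j

lemma sub_one_mul_avg (hx : x ^ r = 1) : (x - 1) * avg x r = 0 := by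
  rw [avg, mul_geom_sum, hx, sub_self]

lemma avg_mul_sub_one (hx : x ^ r = 1) : avg x r * (x - 1) = 0 := by
  rw [avg, geom_sum_mul, hx, sub_self]

lemma pow_fx {v : V} (hv : x v = v) (n : ℕ) : (x ^ n) v = v := by
  induction n with
  | zero => simp
  | succ n ih => rw [pow_succ, Module.End.mul_apply, hv, ih]

lemma avg_of_fx {v : V} (hv : x v = v) : avg x r v = (r : F) • v := by
  simp [avg, LinearMap.sum_apply, pow_fx hv, Nat.cast_smul_eq_nsmul]

/-- `V = C_V(x) ⊕ [V, x]`. -/
lemma isCompl_fx_cm (hr : (r : F) ≠ 0) (hx : x ^ r = 1) : IsCompl (fx x) (cm x) := by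
  constructor
  · rw [Submodule.disjoint_def]
    intro v hv hv'
    obtain ⟨w, rfl⟩ := mem_cm.1 hv'
    have h1 := avg_of_fx (r := r) (mem_fx.1 hv)
    have h2 : avg x r (x w - w) = 0 := by
      have := LinearMap.congr_fun (avg_mul_sub_one hx) w
      simpa [Module.End.mul_apply] using this
    rw [h2] at h1
    exact (smul_eq_zero.1 h1.symm).resolve_left hr
  · rw [codisjoint_iff, eq_top_iff]
    intro v _
    rw [Submodule.mem_sup]
    refine ⟨(r : F)⁻¹ • avg x r v, ?_, v - (r : F)⁻¹ • avg x r v, ?_, by abel⟩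
    · apply Submodule.smul_mem
      rw [fx, LinearMap.mem_ker]
      exact LinearMap.congr_fun (sub_one_mul_avg hx) v
    · -- v - r⁻¹ ∑ x^j v ∈ range (x - 1)
      have key : ∀ j : ℕ, v - (x ^ j) v ∈ cm x := by
        intro j
        have : (x ^ j - 1 : Module.End F V) = (x - 1) * ∑ i ∈ Finset.range j, x ^ i := (mul_geom_sum x j).symm
        have h := LinearMap.congr_fun this v
        rw [← neg_mem_iff, neg_sub]
        rw [LinearMap.sub_apply, Module.End.one_apply] at h
        rw [h, Module.End.mul_apply]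
        exact ⟨_, rfl⟩
      have e : v - (r : F)⁻¹ • avg x r v
          = (r : F)⁻¹ • ∑ j ∈ Finset.range r, (v - (x ^ j) v) := by
        rw [Finset.sum_sub_distrib, smul_sub, avg, LinearMap.sum_apply, Finset.sum_const, Finset.card_range,
          ← Nat.cast_smul_eq_nsmul F, smul_smul, inv_mul_cancel₀ hr, one_smul]
      rw [e]
      exact Submodule.smul_mem _ _ (Submodule.sum_mem _ fun j _ => key j)

/-- For invariant `W`: `W = C_W(x) ⊕ [W, x]`, where `[W, x] = W ∩ [V, x]`. -/
lemma inf_fx_sup_inf_cm (hr : (r : F) ≠ 0) (hx : x ^ r = 1) (hW : Inv x W) :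
    (W ⊓ fx x) ⊔ (W ⊓ cm x) = W := by
  refine le_antisymm (sup_le inf_le_left inf_le_left) ?_
  intro v hv
  rw [Submodule.mem_sup]
  have hav : avg x r v ∈ W := by
    rw [avg, LinearMap.sum_apply]
    exact Submodule.sum_mem _ fun j _ => hW.pow j v hv
  have h1 : (r : F)⁻¹ • avg x r v ∈ fx x := by
    apply Submodule.smul_mem
    rw [fx, LinearMap.mem_ker]
    exact LinearMap.congr_fun (sub_one_mul_avg hx) v
  refine ⟨(r : F)⁻¹ • avg x r v, ⟨W.smul_mem _ hav, h1⟩, v - (r : F)⁻¹ • avg x r v,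
    ⟨W.sub_mem hv (W.smul_mem _ hav), ?_⟩, by abel⟩
  have htop : v ∈ fx x ⊔ cm x := by rw [(isCompl_fx_cm hr hx).sup_eq_top]; trivial
  obtain ⟨a, ha, b, hb, hab⟩ := Submodule.mem_sup.1 htop
  have h2 : avg x r b = 0 := by
    obtain ⟨w, rfl⟩ := mem_cm.1 hb
    have := LinearMap.congr_fun (avg_mul_sub_one hx) w
    simpa [Module.End.mul_apply] using this
  have h3 : (r : F)⁻¹ • avg x r v = a := by
    rw [← hab, map_add, h2, add_zero, avg_of_fx (mem_fx.1 ha), smul_smul, inv_mul_cancel₀ hr, one_smul]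
  rw [h3, ← hab, add_sub_cancel_left]
  exact hb

lemma finrank_inf_add [FiniteDimensional F V] (hr : (r : F) ≠ 0) (hx : x ^ r = 1) (hW : Inv x W) :
    finrank F ↥(W ⊓ fx x) + finrank F ↥(W ⊓ cm x) = finrank F W := by
  conv_rhs => rw [← inf_fx_sup_inf_cm hr hx hW]
  rw [finrank_sup_of_disj]
  rw [eq_bot_iff]
  intro v hv
  have := (isCompl_fx_cm hr hx).inf_eq_bot
  rw [← this]
  exact ⟨hv.1.2, hv.2.2⟩

lemma finrank_fx_add_cm [FiniteDimensional F V] (hr : (r : F) ≠ 0) (hx : x ^ r = 1) :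
    finrank F ↥(fx x) + finrank F ↥(cm x) = finrank F V :=
  Submodule.finrank_add_eq_of_isCompl (isCompl_fx_cm hr hx)

/-- An invariant subspace without fixed vectors lies in `[V, x]`. -/
lemma le_cm_of_inf_fx (hr : (r : F) ≠ 0) (hx : x ^ r = 1) (hW : Inv x W) (h : W ⊓ fx x = ⊥) : W ≤ cm x := by
  have := inf_fx_sup_inf_cm hr hx hW
  rw [h, bot_sup_eq] at this
  rw [← this]; exact inf_le_right

lemma inf_fx_of_le_cm (hr : (r : F) ≠ 0) (hx : x ^ r = 1) (h : W ≤ cm x) : W ⊓ fx x = ⊥ := by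
  rw [eq_bot_iff, ← (isCompl_fx_cm hr hx).inf_eq_bot]
  exact fun v hv => ⟨hv.2, h hv.1⟩

/-- Complement of an invariant subspace which is split along `V = C_V(x) ⊕ [V, x]`. -/
lemma exists_compl_split [FiniteDimensional F V] (hr : (r : F) ≠ 0) (hx : x ^ r = 1) (hU : Inv x U)
    {E C : Submodule F V} (hE : E ≤ U ⊓ fx x) (hC : C ≤ U ⊓ cm x) (hCi : Inv x C) :
    ∃ T : Submodule F V, Inv x T ∧ (E ⊔ C) ⊓ T = ⊥ ∧ (E ⊔ C) ⊔ T = U ∧
      finrank F ↥(T ⊓ fx x) + finrank F E = finrank F ↥(U ⊓ fx x) ∧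
      finrank F ↥(T ⊓ cm x) + finrank F C = finrank F ↥(U ⊓ cm x) := by
  have hss := semisimple_of_pow hr hx
  have hEi : Inv x E := inv_of_le_fx (hE.trans inf_le_right)
  obtain ⟨E', hE'i, hE'U, hE1, hE2⟩ := exists_rel_compl hss hEi (hU.inf inv_fx) hE
  obtain ⟨C', hC'i, hC'U, hC1, hC2⟩ := exists_rel_compl hss hCi (hU.inf inv_cm) hC
  have hEC' : E' ⊓ C' = ⊥ := by
    rw [eq_bot_iff, ← (isCompl_fx_cm hr hx).inf_eq_bot]
    exact inf_le_inf (hE'U.trans inf_le_right) (hC'U.trans inf_le_right)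
  have hEC : E ⊓ C = ⊥ := by
    rw [eq_bot_iff, ← (isCompl_fx_cm hr hx).inf_eq_bot]
    exact inf_le_inf (hE.trans inf_le_right) (hC.trans inf_le_right)
  have hsup : (E ⊔ C) ⊔ (E' ⊔ C') = U := by
    rw [sup_sup_sup_comm, hE2, hC2]
    exact inf_fx_sup_inf_cm hr hx hU
  have e1 := finrank_sup_of_disj hE1
  have e2 := finrank_sup_of_disj hC1
  rw [hE2] at e1
  rw [hC2] at e2
  have e3 := finrank_inf_add hr hx hU
  have e4 := finrank_sup_of_disj hEC'
  have e4' := finrank_sup_of_disj hEC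
  have e5 := finrank_inf_add hr hx (hE'i.sup hC'i)
  have e6 : finrank F E' ≤ finrank F ↥((E' ⊔ C') ⊓ fx x) :=
    Submodule.finrank_mono (le_inf le_sup_left (hE'U.trans inf_le_right))
  have e7 : finrank F C' ≤ finrank F ↥((E' ⊔ C') ⊓ cm x) :=
    Submodule.finrank_mono (le_inf le_sup_right (hC'U.trans inf_le_right))
  have e8 := Submodule.finrank_sup_add_finrank_inf_eq (E ⊔ C) (E' ⊔ C')
  rw [hsup] at e8
  refine ⟨E' ⊔ C', hE'i.sup hC'i, ?_, hsup, ?_, ?_⟩
  · apply Submodule.finrank_eq_zero.1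
    omega
  · omega
  · omega

/-- Orbit counting for an operator of prime order on an invariant finite set. -/
lemma card_modEq [Finite V] [Fact r.Prime] (hx : x ^ r = 1) (S : Set V) (hS : ∀ v ∈ S, x v ∈ S) :
    Nat.card S ≡ Nat.card {v : V // v ∈ S ∧ x v = v} [MOD r] := by
  classical
  have : Fintype V := Fintype.ofFinite V
  have : Fintype S := Fintype.ofFinite S
  let f : Function.End S := fun v => ⟨x v.1, hS v.1 v.2⟩
  have hfn : ∀ n : ℕ, ∀ v : S, ((f ^ n) v).1 = (x ^ n) v.1 := by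
    intro n
    induction n with
    | zero => intro v; rfl
    | succ n ih =>
      intro v
      rw [pow_succ', pow_succ']
      change (f ((f ^ n) v)).1 = x ((x ^ n) v.1)
      rw [← ih v]
  have hf : f ^ r ^ 1 = 1 := by
    funext v
    apply Subtype.ext
    rw [pow_one, hfn, hx]
    rfl
  have h := Equiv.Perm.card_fixedPoints_modEq (p := r) hf
  rw [← Nat.card_eq_fintype_card, ← Nat.card_eq_fintype_card] at h
  refine h.trans (Nat.ModEq.symm ?_)
  rw [Nat.card_congr (α := {v : V // v ∈ S ∧ x v = v}) (β := ↑(Function.fixedPoints f))]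
  exact
    { toFun := fun v => ⟨⟨v.1, v.2.1⟩, Subtype.ext v.2.2⟩
      invFun := fun v => ⟨v.1.1, v.1.2, congrArg Subtype.val v.2⟩
      left_inv := fun v => rfl
      right_inv := fun v => rfl }

variable [Fintype F]

/-- `|W| ≡ |C_W(x)|` modulo `r`. -/
lemma card_pow_modEq [FiniteDimensional F V] [Fact r.Prime] (hx : x ^ r = 1) (hW : Inv x W) :
    Fintype.card F ^ finrank F W ≡ Fintype.card F ^ finrank F ↥(W ⊓ fx x) [MOD r] := by
  classical
  have : Finite V := Module.finite_of_finite F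
  have : Fintype V := Fintype.ofFinite V
  have h := card_modEq hx (W : Set V) (fun v hv => hW v hv)
  have h1 : Nat.card (W : Set V) = Fintype.card F ^ finrank F W := by
    rw [← Nat.card_eq_fintype_card (α := F)]
    exact Module.natCard_eq_pow_finrank (K := F) (V := W)
  have h2 : Nat.card {v : V // v ∈ (W : Set V) ∧ x v = v} = Fintype.card F ^ finrank F ↥(W ⊓ fx x) := by
    rw [← Nat.card_eq_fintype_card (α := F), ← Module.natCard_eq_pow_finrank (K := F) (V := ↥(W ⊓ fx x))]
    refine Nat.card_congr (Equiv.subtypeEquivRight fun v => ?_)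
    rw [Submodule.mem_inf, mem_fx]; rfl
  rwa [h1, h2] at h

/-- The multiplicative order of `|F|` modulo `r` divides the dimension of an invariant subspace without
fixed vectors. -/
lemma ord_dvd_finrank [FiniteDimensional F V] [Fact r.Prime] (hx : x ^ r = 1) (hW : Inv x W)
    (h0 : W ⊓ fx x = ⊥) : orderOf (Fintype.card F : ZMod r) ∣ finrank F W := by
  have h := card_pow_modEq hx hW
  rw [h0, finrank_bot, pow_zero, ← ZMod.natCast_eq_natCast_iff] at h
  rw [orderOf_dvd_iff_pow_eq_one]
  push_cast at h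
  exact h

lemma ord_pos [Fact r.Prime] (hr : (r : F) ≠ 0) : 0 < orderOf (Fintype.card F : ZMod r) := by
  have h : ((Fintype.card F : ℕ) : ZMod r) ≠ 0 := by
    intro h
    rw [ZMod.natCast_eq_zero_iff] at h
    obtain ⟨p, hp⟩ := CharP.exists F
    obtain ⟨n, hpp, hn⟩ := FiniteField.card F p
    rw [hn] at h
    have hrp : r = p := (Nat.prime_dvd_prime_iff_eq Fact.out hpp).1 ((Fact.out : r.Prime).dvd_of_dvd_pow h)
    apply hr
    rw [hrp]
    exact CharP.cast_eq_zero F p
  exact (isOfFinOrder_iff_pow_eq_one.2 ⟨r - 1, Nat.sub_pos_of_lt (Fact.out : r.Prime).one_lt,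
    ZMod.pow_card_sub_one_eq_one h⟩).orderOf_pos

end PrimeOrder

section Irr

variable {F V : Type*} [Field F] [AddCommGroup V] [Module F V]
variable {x : Module.End F V} {W U : Submodule F V} {r : ℕ}

lemma inv_ker_aeval (P : F[X]) : Inv x (LinearMap.ker (aeval x P)) := by
  intro w hw
  rw [LinearMap.mem_ker] at *
  have h : aeval x P * x = x * aeval x P := by
    have h1 : aeval x (P * X) = aeval x P * x := by rw [map_mul, aeval_X]
    have h2 : aeval x (X * P) = x * aeval x P := by rw [map_mul, aeval_X]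
    rw [← h1, ← h2, mul_comm]
  rw [← Module.End.mul_apply, h, Module.End.mul_apply, hw, map_zero]

/-- If `Q(x) v = 0` with `v ≠ 0` in an invariant `W` then some irreducible factor of `Q` kills a non-zero vector of
`W`. -/
lemma exists_irreducible_factor (hW : Inv x W) (Q : F[X]) (hQ : Q ≠ 0) :
    ∀ v ∈ W, v ≠ 0 → aeval x Q v = 0 → ∃ P : F[X], Irreducible P ∧ P ∣ Q ∧ ∃ u ∈ W, u ≠ 0 ∧ aeval x P u = 0 := by
  induction Q using WfDvdMonoid.induction_on_irreducible with
  | zero => exact absurd rfl hQ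
  | unit u hu =>
    intro v _ hv0 hv
    exfalso
    obtain ⟨c, hc, rfl⟩ := Polynomial.isUnit_iff.1 hu
    rw [aeval_C, Module.algebraMap_end_apply] at hv
    exact hv0 ((smul_eq_zero.1 hv).resolve_left hc.ne_zero)
  | mul a P ha hP ih =>
    intro v hvW hv0 hv
    by_cases h : aeval x a v = 0
    · obtain ⟨P', hP', hd, u, hu⟩ := ih ha v hvW hv0 h
      exact ⟨P', hP', hd.mul_left _, u, hu⟩
    · refine ⟨P, hP, dvd_mul_right _ _, aeval x a v, hW.aeval a v hvW, h, ?_⟩
      rw [← Module.End.mul_apply, ← map_mul]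
      exact hv

/-- On a minimal invariant subspace an irreducible factor of any annihilating polynomial vanishes. -/
lemma Irr.exists_factor (hW : Irr x W) (Q : F[X]) (hQ : Q ≠ 0) (hQW : ∀ v ∈ W, aeval x Q v = 0) :
    ∃ P : F[X], Irreducible P ∧ P ∣ Q ∧ ∀ v ∈ W, aeval x P v = 0 := by
  obtain ⟨v, hv, hv0⟩ := (Submodule.ne_bot_iff _).1 hW.1
  obtain ⟨P, hP, hd, u, hu, hu0, hPu⟩ := exists_irreducible_factor hW.2.1 Q hQ v hv hv0 (hQW v hv)
  refine ⟨P, hP, hd, ?_⟩
  rcases hW.2.2 (W ⊓ LinearMap.ker (aeval x P)) inf_le_left (hW.2.1.inf (inv_ker_aeval P)) with h | h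
  · exfalso
    apply hu0
    rw [← Submodule.mem_bot F, ← h]
    exact ⟨hu, LinearMap.mem_ker.2 hPu⟩
  · intro v hv
    rw [← h] at hv
    exact LinearMap.mem_ker.1 hv.2

/-- The span of `v, x v, …, x^{d-1} v` is invariant when a polynomial of degree `d` kills `v`. -/
lemma inv_span_pow {P : F[X]} (hP : P ≠ 0) {v : V} (hv : aeval x P v = 0) :
    Inv x (Submodule.span F (Set.range fun j : Fin P.natDegree => (x ^ (j : ℕ)) v)) := by
  have key : (x ^ P.natDegree) v ∈ Submodule.span F (Set.range fun j : Fin P.natDegree => (x ^ (j : ℕ)) v) := by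
    have h := hv
    rw [aeval_eq_sum_range, Finset.sum_range_succ, LinearMap.add_apply, LinearMap.smul_apply, coeff_natDegree] at h
    have hl : P.leadingCoeff ≠ 0 := leadingCoeff_ne_zero.2 hP
    have e : (x ^ P.natDegree) v
        = -(P.leadingCoeff⁻¹ • (∑ j ∈ Finset.range P.natDegree, P.coeff j • x ^ j) v) := by
      rw [eq_neg_iff_add_eq_zero, add_comm]
      have := congrArg (fun w => P.leadingCoeff⁻¹ • w) h
      simpa [smul_add, smul_smul, inv_mul_cancel₀ hl] using this
    rw [e]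
    refine Submodule.neg_mem _ (Submodule.smul_mem _ _ ?_)
    rw [LinearMap.sum_apply]
    refine Submodule.sum_mem _ fun j hj => ?_
    rw [LinearMap.smul_apply]
    exact Submodule.smul_mem _ _ (Submodule.subset_span ⟨⟨j, Finset.mem_range.1 hj⟩, rfl⟩)
  rw [inv_iff_map, Submodule.map_span_le]
  rintro _ ⟨j, rfl⟩
  have e : x ((x ^ (j : ℕ)) v) = (x ^ ((j : ℕ) + 1)) v := by rw [pow_succ', Module.End.mul_apply]
  simp only [e]
  rcases Nat.lt_or_ge ((j : ℕ) + 1) P.natDegree with h | h
  · exact Submodule.subset_span ⟨⟨_, h⟩, rfl⟩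
  · have : (j : ℕ) + 1 = P.natDegree := le_antisymm j.2 h
    rw [this]; exact key

lemma Irr.finrank_le (hW : Irr x W) {P : F[X]} (hP : P ≠ 0) (hPW : ∀ v ∈ W, aeval x P v = 0)  :
    finrank F W ≤ P.natDegree := by
  obtain ⟨v, hv, hv0⟩ := (Submodule.ne_bot_iff _).1 hW.1
  set S := Submodule.span F (Set.range fun j : Fin P.natDegree => (x ^ (j : ℕ)) v) with hS
  have hinv : Inv x S := inv_span_pow hP (hPW v hv)
  have hSW : S ≤ W := by
    rw [hS, Submodule.span_le]
    rintro _ ⟨j, rfl⟩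
    exact hW.2.1.pow _ v hv
  have hne : S ≠ ⊥ := by
    have hpos : 0 < P.natDegree := by
      rcases Nat.eq_zero_or_pos P.natDegree with h | h
      · exfalso
        have h1 := hPW v hv
        rw [eq_C_of_natDegree_eq_zero h, aeval_C, Module.algebraMap_end_apply] at h1
        rcases smul_eq_zero.1 h1 with h2 | h2
        · apply hP; rw [eq_C_of_natDegree_eq_zero h, h2, C_0]
        · exact hv0 h2
      · exact h
    intro h
    apply hv0
    rw [← Submodule.mem_bot F, ← h]
    exact Submodule.subset_span ⟨⟨0, hpos⟩, by simp⟩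
  have : S = W := (hW.2.2 S hSW hinv).resolve_left hne
  rw [← this]
  calc finrank F S ≤ Fintype.card (Fin P.natDegree) := finrank_range_le_card _
    _ = P.natDegree := Fintype.card_fin _

/-- If an irreducible `P` kills a non-zero vector of an invariant subspace, its dimension is at least `deg P`. -/
lemma natDegree_le_finrank [FiniteDimensional F V] {P : F[X]} (hP : Irreducible P) {v : V} (hv : aeval x P v = 0)
    (hv0 : v ≠ 0) (hW : Inv x W) (hvW : v ∈ W) : P.natDegree ≤ finrank F W := by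
  let L : degreeLT F P.natDegree →ₗ[F] W :=
    { toFun := fun g => ⟨aeval x g.1 v, hW.aeval g.1 v hvW⟩
      map_add' := fun g h => Subtype.ext (by simp)
      map_smul' := fun c g => Subtype.ext (by simp) }
  have hL : Function.Injective L := by
    rw [← LinearMap.ker_eq_bot, eq_bot_iff]
    intro g hg
    rw [LinearMap.mem_ker] at hg
    have hg' : aeval x g.1 v = 0 := congrArg Subtype.val hg
    rw [Submodule.mem_bot]
    by_contra hne
    have hg0 : g.1 ≠ 0 := fun h => hne (Subtype.ext h)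
    have hdeg : g.1.degree < P.natDegree := mem_degreeLT.1 g.2
    have hnd : ¬ P ∣ g.1 := by
      intro hd
      have := Polynomial.degree_le_of_dvd hd hg0
      rw [Polynomial.degree_eq_natDegree hP.ne_zero] at this
      exact absurd (lt_of_le_of_lt this hdeg) (lt_irrefl _)
    obtain ⟨a, b, hab⟩ := (hP.coprime_iff_not_dvd.2 hnd)
    apply hv0
    have h1 : aeval x (a * P + b * g.1) v = v := by rw [hab]; simp
    rw [← h1, map_add, map_mul, map_mul, LinearMap.add_apply, Module.End.mul_apply, Module.End.mul_apply, hv, hg',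
      map_zero, map_zero, add_zero]
  have h2 := LinearMap.finrank_le_finrank_of_injective hL
  rwa [LinearEquiv.finrank_eq (degreeLTEquiv F P.natDegree), Module.finrank_fin_fun] at h2

lemma Irr.finrank_eq_natDegree [FiniteDimensional F V] (hW : Irr x W) {P : F[X]} (hP : Irreducible P)
    (hPW : ∀ v ∈ W, aeval x P v = 0) : finrank F W = P.natDegree := by
  obtain ⟨v, hv, hv0⟩ := (Submodule.ne_bot_iff _).1 hW.1
  exact le_antisymm (hW.finrank_le hP.ne_zero hPW) (natDegree_le_finrank hP (hPW v hv) hv0 hW.2.1 hv)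

lemma natDegree_dvd_finrank [FiniteDimensional F V] (hss : x.IsSemisimple) {P : F[X]} (hP : Irreducible P)
    (hW : Inv x W) (hPW : ∀ v ∈ W, aeval x P v = 0) : P.natDegree ∣ finrank F W := by
  induction hn : finrank F W using Nat.strong_induction_on generalizing W with
  | _ n ih =>
    by_cases h0 : W = ⊥
    · subst h0; simp at hn; simp [← hn]
    · obtain ⟨U, hUW, hU⟩ := exists_irr hW h0
      obtain ⟨T, hT, hTW, hUT, hUT'⟩ := exists_rel_compl hss hU.2.1 hW hUW
      have h1 := finrank_sup_of_disj hUT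
      rw [hUT', hn] at h1
      have h2 := hU.finrank_eq_natDegree hP fun v hv => hPW v (hUW hv)
      have h3 : 0 < finrank F U := Nat.pos_of_ne_zero fun h => hU.1 (Submodule.finrank_eq_zero.1 h)
      have h4 := ih (finrank F T) (by omega) hT (fun v hv => hPW v (hTW hv)) rfl
      rw [h1, h2]
      exact dvd_add dvd_rfl h4

lemma cyclotomic_apply_of_mem_cm [Fact r.Prime] (hx : x ^ r = 1) {v : V} (hv : v ∈ cm x) :
    aeval x (cyclotomic r F) v = 0 := by
  obtain ⟨w, rfl⟩ := mem_cm.1 hv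
  have h : aeval x (cyclotomic r F * (X - 1)) w = 0 := by
    rw [cyclotomic_prime_mul_X_sub_one]
    simp [hx]
  rw [map_mul, Module.End.mul_apply] at h
  simpa using h

variable [Fintype F]

lemma natDegree_factor [Fact r.Prime] (hr : (r : F) ≠ 0) {P : F[X]} (hP : Irreducible P)
    (hd : P ∣ cyclotomic r F) : P.natDegree = orderOf (Fintype.card F : ZMod r) := by
  obtain ⟨p, hp⟩ := CharP.exists F
  obtain ⟨n, hpp, hn⟩ := FiniteField.card F p
  have hfact : Fact p.Prime := ⟨hpp⟩
  have hcop : p.Coprime r := by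
    rw [Nat.coprime_primes hpp Fact.out]
    rintro rfl
    exact hr (CharP.cast_eq_zero F p)
  have h := Polynomial.natDegree_of_dvd_cyclotomic_of_irreducible hn hcop hd hP
  rw [h, ← orderOf_units, ZMod.coe_unitOfCoprime, hn]

/-- A minimal invariant subspace of `[V, x]` has dimension the multiplicative order of `|F|` modulo `r`. -/
lemma Irr.finrank_eq [FiniteDimensional F V] [Fact r.Prime] (hr : (r : F) ≠ 0) (hx : x ^ r = 1) (hW : Irr x W)
    (hc : W ≤ cm x) : finrank F W = orderOf (Fintype.card F : ZMod r) := by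
  have hcy : cyclotomic r F ≠ 0 := cyclotomic_ne_zero r F
  obtain ⟨P, hP, hd, hPW⟩ := hW.exists_factor (cyclotomic r F) hcy
    fun v hv => cyclotomic_apply_of_mem_cm hx (hc hv)
  have h1 := hW.finrank_le hP.ne_zero hPW
  rw [natDegree_factor hr hP hd] at h1
  refine le_antisymm h1 (Nat.le_of_dvd ?_ (ord_dvd_finrank hx hW.2.1 (inf_fx_of_le_cm hr hx hc)))
  rw [Nat.pos_iff_ne_zero]
  intro h
  exact hW.1 (Submodule.finrank_eq_zero.1 h)

/-- In an invariant subspace of `[V, x]` there are invariant subspaces of every dimension which is a multiple of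
the order of `|F|` modulo `r`. -/
lemma exists_inv_finrank [FiniteDimensional F V] [Fact r.Prime] (hr : (r : F) ≠ 0) (hx : x ^ r = 1) (hW : Inv x W)
    (hc : W ≤ cm x) {j : ℕ} (hj : orderOf (Fintype.card F : ZMod r) * j ≤ finrank F W) :
    ∃ U ≤ W, Inv x U ∧ finrank F U = orderOf (Fintype.card F : ZMod r) * j := by
  induction j with
  | zero => exact ⟨⊥, bot_le, inv_bot, by simp⟩
  | succ j ih =>
    obtain ⟨U, hUW, hU, hUd⟩ := ih (le_trans (Nat.mul_le_mul_left _ (Nat.le_succ j)) hj)
    obtain ⟨T, hT, hTW, hUT, hUT'⟩ := exists_rel_compl (semisimple_of_pow hr hx) hU hW hUW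
    have hT0 : T ≠ ⊥ := by
      rintro rfl
      rw [sup_bot_eq] at hUT'
      rw [← hUT', hUd] at hj
      have := ord_pos (F := F) hr
      nlinarith
    obtain ⟨S, hST, hS⟩ := exists_irr hT hT0
    refine ⟨U ⊔ S, sup_le hUW (hST.trans hTW), hU.sup hS.2.1, ?_⟩
    rw [finrank_sup_of_disj, hUd, hS.finrank_eq hr hx (hST.trans (hTW.trans hc)), mul_add, mul_one]
    rw [eq_bot_iff, ← hUT]
    exact inf_le_inf_left _ hST

end Irr

end Cfsg.Agent.H951
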