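import Mathlib
import Cfsg.Agent.FastGrp
import Cfsg.Agent.Prune
set_option linter.all false
prune_inst 0x7f00000000000000000000000000000000000000000000000000000000000000000000000000000000000000000000000000000000000000000000000000000000000000000000000000000000000000003fffffffffffffffffffffffffffbeffbdfbfeffff
open scoped Cfsg.Agent.FastGrp

/-!
# Degrees of representations from orbits of characters of an abelian group (helper951)

* `core` : an abelian group `A` acting on `V` through `σ`, operators `T j` with `σ a * T j = T j * σ (α j a)` and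
  `σ a₀ ≠ 1`: if for all characters `χ` with `χ a₀ ≠ 1` the characters `χ ∘ α j` are distinct, then `|J| ≤ dim V`.
* `heis` : the bound `|F| ^ k ≤ dim V` from `k` commuting pairs of root groups with product the root group `z`.
-/

set_option autoImplicit false
set_option linter.unusedSectionVars false

namespace Cfsg.Agent.H951.TCHeis

open Module

section Core

variable {A : Type*} [AddCommGroup A] [Finite A] {V : Type*} [AddCommGroup V] [Module ℂ V]

/-- `σ b (∑ a, χ (-a) • σ a v) = χ b • …` -/
theorem proj_eig [Fintype A] (σ : Multiplicative A →* Module.End ℂ V) (χ : AddChar A ℂ) (v : V) (b : A) :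
    σ (Multiplicative.ofAdd b) (∑ a : A, χ (-a) • σ (Multiplicative.ofAdd a) v) =
      χ b • ∑ a : A, χ (-a) • σ (Multiplicative.ofAdd a) v := by
  rw [map_sum, Finset.smul_sum, ← Equiv.sum_comp (Equiv.subRight b)]
  refine Finset.sum_congr rfl fun a _ => ?_
  rw [map_smul, smul_smul, ← AddChar.map_add_eq_mul]
  have e1 : σ (Multiplicative.ofAdd b) (σ (Multiplicative.ofAdd ((Equiv.subRight b) a)) v) =
      σ (Multiplicative.ofAdd a) v := by
    rw [← Module.End.mul_apply, ← map_mul, ← ofAdd_add]
    simp
  rw [e1]
  congr 2
  rw [Equiv.subRight_apply, neg_sub, sub_eq_add_neg]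

/-- a simultaneous eigenvector with a nontrivial value at `a₀` -/
theorem exists_eig (σ : Multiplicative A →* Module.End ℂ V) (a₀ : A) (h0 : σ (Multiplicative.ofAdd a₀) ≠ 1) :
    ∃ (χ : AddChar A ℂ) (v : V), v ≠ 0 ∧ (∀ a, σ (Multiplicative.ofAdd a) v = χ a • v) ∧ χ a₀ ≠ 1 := by
  classical
  have : Fintype A := Fintype.ofFinite A
  by_contra hcon
  push Not at hcon
  apply h0
  ext v0
  have h1 : ∀ χ : AddChar A ℂ, σ (Multiplicative.ofAdd a₀) (∑ a : A, χ (-a) • σ (Multiplicative.ofAdd a) v0) =
      ∑ a : A, χ (-a) • σ (Multiplicative.ofAdd a) v0 := by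
    intro χ
    by_cases h : (∑ a : A, χ (-a) • σ (Multiplicative.ofAdd a) v0) = 0
    · rw [h, map_zero]
    · rw [proj_eig, hcon χ _ h (proj_eig σ χ v0), one_smul]
  have h2 : ∑ χ : AddChar A ℂ, (∑ a : A, χ (-a) • σ (Multiplicative.ofAdd a) v0) = (Fintype.card A : ℂ) • v0 := by
    rw [Finset.sum_comm]
    have : ∀ a : A, ∑ χ : AddChar A ℂ, χ (-a) • σ (Multiplicative.ofAdd a) v0 =
        if a = 0 then (Fintype.card A : ℂ) • v0 else 0 := by
      intro a
      rw [← Finset.sum_smul, AddChar.sum_apply_eq_ite]
      by_cases ha : a = 0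
      · subst ha; simp
      · simp [ha]
    rw [Finset.sum_congr rfl fun a _ => this a]
    simp
  have h3 := Finset.sum_congr (rfl : (Finset.univ : Finset (AddChar A ℂ)) = Finset.univ) fun χ _ => h1 χ
  rw [← map_sum, h2, map_smul] at h3
  have h4 : (Fintype.card A : ℂ) ≠ 0 := Nat.cast_ne_zero.2 Fintype.card_ne_zero
  rw [← sub_eq_zero, ← smul_sub] at h3
  have h5 := (smul_eq_zero.1 h3).resolve_left h4
  rw [sub_eq_zero] at h5
  simpa using h5

/-- eigenvectors with different characters are linearly independent -/
theorem linInd (σ : Multiplicative A →* Module.End ℂ V) {J : Type*} (χ : J → AddChar A ℂ)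
    (hχ : Function.Injective χ) (v : J → V) (hv : ∀ j, v j ≠ 0)
    (he : ∀ j a, σ (Multiplicative.ofAdd a) (v j) = χ j a • v j) : LinearIndependent ℂ v := by
  classical
  have : Fintype A := Fintype.ofFinite A
  rw [linearIndependent_iff']
  intro s g hs i hi
  have h1 : (∑ a : A, χ i (-a) • σ (Multiplicative.ofAdd a)) (∑ j ∈ s, g j • v j) = 0 := by rw [hs, map_zero]
  have h2 : ∀ j, (∑ a : A, χ i (-a) • σ (Multiplicative.ofAdd a)) (v j) =
      if j = i then (Fintype.card A : ℂ) • v j else 0 := by
    intro j
    have h3 : (∑ a : A, χ i (-a) • σ (Multiplicative.ofAdd a)) (v j) = (∑ a : A, (χ j - χ i) a) • v j := by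
      rw [LinearMap.sum_apply, Finset.sum_smul]
      refine Finset.sum_congr rfl fun a _ => ?_
      rw [LinearMap.smul_apply, he, smul_smul, AddChar.sub_apply, mul_comm]
    rw [h3]
    by_cases h : j = i
    · subst h
      simp
    · rw [if_neg h, AddChar.sum_eq_zero_of_ne_one, zero_smul]
      intro h4
      exact h (hχ (sub_eq_zero.1 h4))
  rw [map_sum] at h1
  have h4 : ∀ j ∈ s, (∑ a : A, χ i (-a) • σ (Multiplicative.ofAdd a)) (g j • v j) =
      if j = i then g i • (Fintype.card A : ℂ) • v i else 0 := by
    intro j _
    rw [map_smul, h2]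
    split_ifs with h
    · rw [h]
    · rw [smul_zero]
  rw [Finset.sum_congr rfl h4, Finset.sum_ite_eq' s i, if_pos hi, smul_smul] at h1
  have h5 := (smul_eq_zero.1 h1).resolve_right (hv i)
  exact (mul_eq_zero.1 h5).resolve_right (Nat.cast_ne_zero.2 Fintype.card_ne_zero)

/-- **The orbit bound.** -/
theorem core [FiniteDimensional ℂ V] (σ : Multiplicative A →* Module.End ℂ V) {J : Type*} [Finite J] (T : J → Module.End ℂ V)
    (hT : ∀ j, Function.Injective (T j)) (α : J → A →+ A)
    (hTσ : ∀ j a, σ (Multiplicative.ofAdd a) * T j = T j * σ (Multiplicative.ofAdd (α j a))) (a₀ : A)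
    (h0 : σ (Multiplicative.ofAdd a₀) ≠ 1)
    (hd : ∀ χ : AddChar A ℂ, χ a₀ ≠ 1 → ∀ i j, (∀ a, χ (α i a) = χ (α j a)) → i = j) :
    Nat.card J ≤ Module.finrank ℂ V := by
  classical
  have : Fintype J := Fintype.ofFinite J
  obtain ⟨χ, v, hv, he, h1⟩ := exists_eig σ a₀ h0
  have hli : LinearIndependent ℂ fun j => T j v := by
    refine linInd σ (fun j => χ.compAddMonoidHom (α j)) ?_ _ (fun j h => hv (hT j (by rw [h, map_zero]))) ?_
    · intro i j hij
      exact hd χ h1 i j fun a => by
        have := DFunLike.congr_fun hij a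
        simpa using this
    · intro j a
      rw [← Module.End.mul_apply, hTσ, Module.End.mul_apply, he, map_smul]
      rfl
  rw [Nat.card_eq_fintype_card]
  exact hli.fintype_card_le_finrank

end Core

section Heis

variable {P : Type*} [Group P] {F : Type*} [Field F] [Finite F] {V : Type*} [AddCommGroup V] [Module ℂ V]
  [FiniteDimensional ℂ V]

/-- **The Heisenberg bound**: `z`, `b i` commuting additive families, `g i s` commutes with `z` and the `b j`, `j ≠ i`,
and `[g i s, b i t] = z (ε i * s * t)`. -/
theorem heis (k : ℕ) (z : F → P) (b g : Fin k → F → P) (ε : Fin k → F) (hε : ∀ i, ε i ≠ 0)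
    (hz : ∀ s t, z (s + t) = z s * z t) (hb : ∀ i s t, b i (s + t) = b i s * b i t)
    (hzb : ∀ i s t, z s * b i t = b i t * z s) (hbb : ∀ i j, i ≠ j → ∀ s t, b i s * b j t = b j t * b i s)
    (hgz : ∀ i s t, g i s * z t = z t * g i s) (hgb : ∀ i j, i ≠ j → ∀ s t, g i s * b j t = b j t * g i s)
    (hg : ∀ i s t, b i t * g i s = g i s * (b i t * z (ε i * s * t)))
    (ρ : P →* Module.End ℂ V) (hρ : ∃ t, ρ (z t) ≠ 1) : Nat.card F ^ k ≤ Module.finrank ℂ V := by
  classical
  have : Fintype F := Fintype.ofFinite F
  obtain ⟨t₀, ht₀⟩ := hρ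
  have hz0 : z 0 = 1 := by
    have := hz 0 0
    rw [add_zero] at this
    exact mul_eq_left.1 this.symm
  have hb0 : ∀ i, b i 0 = 1 := by
    intro i
    have := hb i 0 0
    rw [add_zero] at this
    exact mul_eq_left.1 this.symm
  -- the homomorphisms
  let bb : Fin k → Multiplicative F →* P := fun i =>
    { toFun := fun t => b i t.toAdd, map_one' := hb0 i
      map_mul' := fun s t => hb i _ _ }
  have hcomm : Pairwise fun i j => ∀ x y, Commute (bb i x) (bb j y) := fun i j hij x y => hbb i j hij _ _
  let B : (∀ _ : Fin k, Multiplicative F) →* P := MonoidHom.noncommPiCoprod bb hcomm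
  have hBs : ∀ i x, B (Pi.mulSingle i x) = b i x.toAdd := fun i x => MonoidHom.noncommPiCoprod_mulSingle bb i x
  have hBz : ∀ s u, z s * B u = B u * z s := by
    intro s u
    have h1 : B.range ≤ Subgroup.centralizer ({z s} : Set P) := by
      rw [MonoidHom.noncommPiCoprod_range]
      refine iSup_le fun i => ?_
      rintro _ ⟨t, rfl⟩
      rw [Subgroup.mem_centralizer_singleton_iff]
      exact (hzb i _ _).symm
    exact (Subgroup.mem_centralizer_singleton_iff.1 (h1 ⟨u, rfl⟩)).symm
  -- one step
  have hstep : ∀ i s u, B u * g i s = g i s * (B u * z (ε i * s * (u i).toAdd)) := by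
    intro i s
    let S : Submonoid (∀ _ : Fin k, Multiplicative F) :=
      { carrier := {u | B u * g i s = g i s * (B u * z (ε i * s * (u i).toAdd))}
        one_mem' := by
          show B 1 * g i s = g i s * (B 1 * z (ε i * s * ((1 : ∀ _ : Fin k, Multiplicative F) i).toAdd))
          rw [map_one, Pi.one_apply, toAdd_one, mul_zero, hz0]
          simp
        mul_mem' := by
          intro u v hu hv
          show B (u * v) * g i s = g i s * (B (u * v) * z (ε i * s * ((u * v) i).toAdd))
          have hu' : B u * g i s = g i s * (B u * z (ε i * s * (u i).toAdd)) := hu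
          have hv' : B v * g i s = g i s * (B v * z (ε i * s * (v i).toAdd)) := hv
          rw [Pi.mul_apply, toAdd_mul, mul_add, hz, map_mul]
          calc B u * B v * g i s = B u * (B v * g i s) := mul_assoc _ _ _
            _ = B u * g i s * (B v * z (ε i * s * (v i).toAdd)) := by rw [hv']; group
            _ = g i s * (B u * (z (ε i * s * (u i).toAdd) * B v) * z (ε i * s * (v i).toAdd)) := by rw [hu']; group
            _ = _ := by rw [hBz]; group }
    intro u
    have hu : u ∈ S := by
      rw [← Finset.univ_prod_mulSingle u]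
      refine Submonoid.prod_mem S fun j _ => ?_
      show B (Pi.mulSingle j (u j)) * g i s =
        g i s * (B (Pi.mulSingle j (u j)) * z (ε i * s * ((Pi.mulSingle j (u j) : ∀ _ : Fin k, Multiplicative F) i).toAdd))
      rw [hBs]
      by_cases hij : i = j
      · subst hij
        rw [Pi.mulSingle_eq_same]
        exact hg i s _
      · rw [Pi.mulSingle_eq_of_ne hij, toAdd_one, mul_zero, hz0, mul_one]
        exact (hgb i j hij s _).symm
    exact hu
  -- the abelian group
  let σ : Multiplicative (F × (Fin k → F)) →* Module.End ℂ V := ρ.comp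
    { toFun := fun a => z a.toAdd.1 * B (fun i => Multiplicative.ofAdd (a.toAdd.2 i))
      map_one' := by
        show z 0 * B 1 = 1
        rw [hz0, map_one, one_mul]
      map_mul' := fun a c => by
        show z (a.toAdd.1 + c.toAdd.1) * B ((fun i => Multiplicative.ofAdd (a.toAdd.2 i)) *
          (fun i => Multiplicative.ofAdd (c.toAdd.2 i))) = _
        rw [hz, map_mul]
        calc _ = z a.toAdd.1 * (z c.toAdd.1 * B (fun i => Multiplicative.ofAdd (a.toAdd.2 i))) *
              B (fun i => Multiplicative.ofAdd (c.toAdd.2 i)) := by group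
          _ = _ := by rw [hBz]; group }
  have hσ : ∀ a : F × (Fin k → F), σ (Multiplicative.ofAdd a) = ρ (z a.1 * B (fun i => Multiplicative.ofAdd (a.2 i))) :=
    fun _ => rfl
  have h1 := core σ (J := Fin k → F) (fun s => ρ ((List.finRange k).map fun i => g i (s i)).prod)
    (fun s => by
      refine Function.LeftInverse.injective (g := ρ (((List.finRange k).map fun i => g i (s i)).prod)⁻¹) fun v => ?_
      rw [← Module.End.mul_apply, ← map_mul, inv_mul_cancel, map_one, Module.End.one_apply])
    (fun s =>
      { toFun := fun a => (a.1 + ∑ i, ε i * s i * a.2 i, a.2)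
        map_zero' := by simp
        map_add' := fun a c => by
          ext1
          · simp only [Prod.fst_add, Prod.snd_add, Pi.add_apply, mul_add, Finset.sum_add_distrib]
            ring
          · rfl })
    (fun s a => by
      have key : ∀ (l : List (Fin k)) (a : F × (Fin k → F)),
          z a.1 * B (fun i => Multiplicative.ofAdd (a.2 i)) * (l.map fun i => g i (s i)).prod =
          (l.map fun i => g i (s i)).prod * (z (a.1 + (l.map fun i => ε i * s i * a.2 i).sum) *
            B (fun i => Multiplicative.ofAdd (a.2 i))) := by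
        intro l
        induction l with
        | nil => intro a; simp
        | cons j l ih =>
          intro a
          rw [List.map_cons, List.prod_cons, List.map_cons, List.sum_cons]
          have e1 := hstep j (s j) (fun i => Multiplicative.ofAdd (a.2 i))
          have e2 := ih (a.1 + ε j * s j * a.2 j, a.2)
          simp only at e2
          have e3 := hgz j (s j) a.1
          calc z a.1 * B (fun i => Multiplicative.ofAdd (a.2 i)) * (g j (s j) * (l.map fun i => g i (s i)).prod) =
              z a.1 * (B (fun i => Multiplicative.ofAdd (a.2 i)) * g j (s j)) * (l.map fun i => g i (s i)).prod := by group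
            _ = (z a.1 * g j (s j)) * (B (fun i => Multiplicative.ofAdd (a.2 i)) * z (ε j * s j * a.2 j)) *
                (l.map fun i => g i (s i)).prod := by rw [e1]; simp only [mul_assoc]; rfl
            _ = g j (s j) * (z a.1 * z (ε j * s j * a.2 j) * B (fun i => Multiplicative.ofAdd (a.2 i)) *
                (l.map fun i => g i (s i)).prod) := by rw [← e3, ← hBz]; simp only [mul_assoc]
            _ = _ := by rw [← hz, e2]; simp only [mul_assoc, add_assoc]
      have e4 : (List.map (fun i => ε i * s i * a.2 i) (List.finRange k)).sum = ∑ i, ε i * s i * a.2 i := by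
        rw [← List.sum_ofFn, List.ofFn_eq_map]
      rw [hσ, hσ, ← map_mul, ← map_mul, key]
      show _ = ρ ((List.map (fun i => g i (s i)) (List.finRange k)).prod *
        (z (a.1 + ∑ i, ε i * s i * a.2 i) * B fun i => Multiplicative.ofAdd (a.2 i)))
      rw [e4])
    (t₀, 0) (by
      rw [hσ]
      have : B (fun i => Multiplicative.ofAdd ((0 : Fin k → F) i)) = 1 := map_one B
      rw [this, mul_one]
      exact ht₀)
    (fun χ hχ s s' h => by
      funext i
      by_contra hne
      apply hχ
      have h2 : ∀ x : F, χ (x, 0) = 1 := by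
        intro x
        have hne' : ε i * (s i - s' i) ≠ 0 := mul_ne_zero (hε i) (sub_ne_zero.2 hne)
        obtain ⟨y, hy⟩ : ∃ y : F, ε i * s i * y = x + ε i * s' i * y := ⟨x / (ε i * (s i - s' i)), by
          linear_combination mul_div_cancel₀ x hne'⟩
        have h3 := h (0, Pi.single i y)
        have e : ∀ s : Fin k → F, ∑ j, ε j * s j * (Pi.single i y : Fin k → F) j = ε i * s i * y := by
          intro s
          rw [Finset.sum_eq_single i]
          · rw [Pi.single_eq_same]
          · intro j _ hj
            rw [Pi.single_eq_of_ne hj, mul_zero]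
          · intro h
            exact absurd (Finset.mem_univ i) h
        have h4 : χ ((0 : F) + ∑ j, ε j * s j * (Pi.single i y : Fin k → F) j, (Pi.single i y : Fin k → F)) =
          χ ((0 : F) + ∑ j, ε j * s' j * (Pi.single i y : Fin k → F) j, (Pi.single i y : Fin k → F)) := h3
        rw [e, e, zero_add, zero_add, hy] at h4
        have e5 : ((x + ε i * s' i * y, Pi.single i y) : F × (Fin k → F)) = (x, 0) + (ε i * s' i * y, Pi.single i y) := by
          rw [Prod.mk_add_mk, zero_add]
        rw [e5, AddChar.map_add_eq_mul] at h4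
        have h5 : χ (ε i * s' i * y, Pi.single i y) ≠ 0 := by
          intro h6
          have h7 := χ.map_add_eq_mul (ε i * s' i * y, Pi.single i y) (-(ε i * s' i * y, Pi.single i y))
          rw [add_neg_cancel, AddChar.map_zero_eq_one, h6, zero_mul] at h7
          exact one_ne_zero h7
        exact mul_right_cancel₀ h5 (h4.trans (one_mul _).symm)
      exact h2 t₀)
  rw [Nat.card_fun, Nat.card_eq_fintype_card (α := Fin k), Fintype.card_fin] at h1
  exact h1

end Heis

end Cfsg.Agent.H951.TCHeis
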