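import Cfsg.Agent.H951.Glue
set_option linter.all false
/-!
# Nondegenerate invariant `m`-spaces of isometries of prime order: the abstract criterion
-/

set_option autoImplicit false
set_option linter.unusedSectionVars false
set_option linter.unusedVariables false

namespace Cfsg.Agent.H951

open Module Polynomial

variable {F V : Type*} [Field F] [AddCommGroup V] [Module F V] [FiniteDimensional F V]
variable {σ : F →+* F} {ε : F} {B : V → V → F} {U W : Submodule F V} {r : ℕ} {x : Module.End F V}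

lemma finrank_fx_cm (hr : (r : F) ≠ 0) (hxr : x ^ r = 1) :
    finrank F ↥(fx x) + finrank F ↥(cm x) = finrank F V :=
  Submodule.finrank_add_eq_of_isCompl (isCompl_fx_cm hr hxr)

lemma Isom.nd_fx (hB : Frm σ ε B) (hx : Isom B x) (hr : (r : F) ≠ 0) (hxr : x ^ r = 1)
    (hV : Nd B (⊤ : Submodule F V)) : Nd B (fx x) := by
  have := hx.nd_inf_fx hB hr hxr (U := ⊤) (fun _ _ => trivial) hV
  rwa [top_inf_eq] at this

lemma Isom.nd_cm (hB : Frm σ ε B) (hx : Isom B x) (hr : (r : F) ≠ 0) (hxr : x ^ r = 1)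
    (hV : Nd B (⊤ : Submodule F V)) : Nd B (cm x) := by
  have := hx.nd_inf_cm hB hr hxr (U := ⊤) (fun _ _ => trivial) hV
  rwa [top_inf_eq] at this

lemma fx_le_perp_cm (hB : Frm σ ε B) (hx : Isom B x) : fx x ≤ hB.perp (cm x) :=
  fun u hu v hv => hx.fx_cm hB hu hv

/-- Glue a subspace of `[V, x]` and one of `C_V(x)`. -/
lemma glue_nd (hB : Frm σ ε B) (hx : Isom B x) {W₁ W₂ : Submodule F V} (h1 : W₁ ≤ cm x) (h2 : W₂ ≤ fx x)
    (hi : Inv x W₁) (hn1 : Nd B W₁) (hn2 : Nd B W₂) :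
    Inv x (W₁ ⊔ W₂) ∧ Nd B (W₁ ⊔ W₂) ∧ finrank F ↥(W₁ ⊔ W₂) = finrank F W₁ + finrank F W₂ := by
  have h3 : W₁ ≤ hB.perp W₂ := by
    rw [hB.le_perp_iff]
    exact fun v hv w hw => hx.fx_cm hB (h2 hv) (h1 hw)
  have h4 := hB.nd_sup hn1 hn2 h3
  exact ⟨hi.sup (inv_of_le_fx h2), h4.1, finrank_sup_of_disj h4.2⟩

theorem exists_inv_nd [Fintype F] [Fact r.Prime] (hr : (r : F) ≠ 0) (hr2 : r ≠ 2) {p : ℕ} [Fact p.Prime] [CharP F p]
    {c : ℕ} (hB : Frm σ ε B) (hK : Kind σ ε B) (hV : Nd B (⊤ : Submodule F V)) (hx : Isom B x) (hxr : x ^ r = 1)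
    (hdiv : ∀ W' : Submodule F V, Inv x W' → Nd B W' → W' ≤ cm x → c ∣ finrank F W')
    (hc : BlockNum σ p r (orderOf (Fintype.card F : ZMod r)) c) {m : ℕ} (hm : m ≤ finrank F V)
    (hpar : σ = RingHom.id F → Even m ∧ Even c) (h : m % c ≤ finrank F V % c) :
    ∃ W : Submodule F V, Inv x W ∧ Nd B W ∧ finrank F W = m := by
  have hcpos : 0 < c := by
    have := ord_pos (F := F) hr
    rcases hc with hc | ⟨hc, -⟩ <;> omega
  obtain ⟨M, hM⟩ := hdiv (cm x) (inv_cm) (hx.nd_cm hB hr hxr hV) le_rfl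
  have hd := finrank_fx_cm hr hxr
  rw [hM] at hd
  have hMN : M ≤ finrank F V / c := (Nat.le_div_iff_mul_le hcpos).2 (by rw [mul_comm]; omega)
  have h1 := Nat.div_add_mod (finrank F V) c
  have h2 := Nat.div_add_mod m c
  have h3 : c * M ≤ c * (finrank F V / c) := Nat.mul_le_mul_left _ hMN
  obtain ⟨W₁, hW₁, hi₁, hn₁, hd₁⟩ := exists_nd_finrank hr hr2 hB hx hxr hdiv hc (inv_cm)
    (hx.nd_cm hB hr hxr hV) le_rfl (j := min M (m / c)) (by rw [hM]; exact Nat.mul_le_mul_left _ (min_le_left _ _))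
  have h4 : c * min M (m / c) ≤ c * (m / c) := Nat.mul_le_mul_left _ (min_le_right _ _)
  have h5 : m - c * min M (m / c) ≤ finrank F ↥(fx x) := by
    rcases le_total M (m / c) with h6 | h6
    · rw [min_eq_left h6]; omega
    · rw [min_eq_right h6]; omega
  obtain ⟨W₂, hW₂, hn₂, hd₂⟩ := exists_nd_sub hB hK (hx.nd_fx hB hr hxr hV) h5 (by
    intro hσ
    obtain ⟨he1, he2⟩ := hpar hσ
    obtain ⟨a, ha⟩ := he1
    obtain ⟨b, hb⟩ := he2.mul_right (min M (m / c))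
    exact ⟨a - b, by omega⟩)
  obtain ⟨g1, g2, g3⟩ := glue_nd hB hx hW₁ hW₂ hi₁ hn₁ hn₂
  refine ⟨_, g1, g2, ?_⟩
  rw [g3, hd₁, hd₂]
  omega

theorem le_of_inv_nd (hB : Frm σ ε B) (hV : Nd B (⊤ : Submodule F V)) {c : ℕ} (hc0 : 0 < c) (hr : (r : F) ≠ 0)
    (hx : Isom B x) (hxr : x ^ r = 1)
    (hdiv : ∀ W' : Submodule F V, Inv x W' → Nd B W' → W' ≤ cm x → c ∣ finrank F W')
    (hM : finrank F ↥(cm x) = c * (finrank F V / c)) {m : ℕ} (hm : finrank F V % c < m)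
    (hWi : Inv x W) (hW : Nd B W) (hWm : finrank F W = m) : c ≤ m ∧ m % c ≤ finrank F V % c := by
  have h1 := hx.nd_inf_cm hB hr hxr hWi hW
  obtain ⟨j, hj⟩ := hdiv (W ⊓ cm x) (hWi.inf (inv_cm)) h1 inf_le_right
  have h2 := finrank_inf_add hr hxr hWi
  rw [hj, hWm] at h2
  have h3 : finrank F ↥(W ⊓ fx x) ≤ finrank F ↥(fx x) := Submodule.finrank_mono inf_le_right
  have h4 := finrank_fx_cm hr hxr
  have h5 := Nat.div_add_mod (finrank F V) c
  have h6 : finrank F ↥(fx x) = finrank F V % c := by omega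
  have h7 : finrank F V % c < c := Nat.mod_lt _ hc0
  have hj0 : j ≠ 0 := by
    rintro rfl
    omega
  have h8 : c * 1 ≤ c * j := Nat.mul_le_mul_left _ (Nat.pos_of_ne_zero hj0)
  refine ⟨by omega, ?_⟩
  have h9 : m % c = finrank F ↥(W ⊓ fx x) := by
    have e1 : m = finrank F ↥(W ⊓ fx x) + c * j := by omega
    rw [e1, Nat.add_mul_mod_self_left]
    exact Nat.mod_eq_of_lt (by omega)
  rw [h9]
  omega

end Cfsg.Agent.H951
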