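import Cfsg.Agent.H951.Lin
set_option linter.all false
/-!
# Decompositions permuted by an operator

`PD x a U t`: the subspace `U` has a decomposition into `t` subspaces of dimension `a` which are permuted by `x`.
`Cyc x r a U`: `U = W ⊕ x W ⊕ ⋯ ⊕ x^{r-1} W` with `dim W = a` and `x^r W = W`.
-/

set_option autoImplicit false

namespace Cfsg.Agent.H951

open Module Polynomial

variable {F V : Type*} [Field F] [AddCommGroup V] [Module F V]

lemma finrank_iSup_le [FiniteDimensional F V] {ι : Type*} [Fintype ι] (D : ι → Submodule F V) :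
    finrank F ↥(⨆ i, D i) ≤ ∑ i, finrank F (D i) := by
  classical
  have h : ∀ s : Finset ι, finrank F ↥(⨆ i ∈ s, D i) ≤ ∑ i ∈ s, finrank F (D i) := by
    intro s
    induction s using Finset.induction_on with
    | empty => simp
    | insert a s ha ih =>
      rw [Finset.iSup_insert, Finset.sum_insert ha]
      exact (Submodule.finrank_add_le_finrank_add_finrank _ _).trans (Nat.add_le_add_left ih _)
  have := h Finset.univ
  rwa [show (⨆ i ∈ Finset.univ, D i) = ⨆ i, D i by simp] at this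

/-- A finite family of subspaces whose dimensions sum to at most the dimension of its supremum is independent. -/
lemma indep_of_finrank [FiniteDimensional F V] {ι : Type*} [Fintype ι] (D : ι → Submodule F V)
    (h : ∑ i, finrank F (D i) ≤ finrank F ↥(⨆ i, D i)) : iSupIndep D := by
  classical
  rw [iSupIndep_def]
  intro i
  have h1 : (⨆ i, D i) = D i ⊔ ⨆ (j) (_ : j ≠ i), D j := by
    apply le_antisymm
    · refine iSup_le fun j => ?_
      by_cases hj : j = i
      · subst hj; exact le_sup_left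
      · exact le_sup_of_le_right (le_iSup₂_of_le j hj le_rfl)
    · exact sup_le (le_iSup D i) (iSup₂_le fun j _ => le_iSup D j)
  have h2 : finrank F ↥(⨆ (j) (_ : j ≠ i), D j) ≤ ∑ j ∈ Finset.univ.erase i, finrank F (D j) := by
    have h3 : (⨆ (j) (_ : j ≠ i), D j) = ⨆ j : {j // j ∈ Finset.univ.erase i}, D j.1 := by
      apply le_antisymm
      · refine iSup₂_le fun j hj => ?_
        exact le_iSup (fun j : {j // j ∈ Finset.univ.erase i} => D j.1) ⟨j, by simp [hj]⟩
      · refine iSup_le fun j => ?_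
        have := (Finset.mem_erase.1 j.2).1
        exact le_iSup₂_of_le j.1 this le_rfl
    rw [h3]
    refine (finrank_iSup_le _).trans (le_of_eq ?_)
    exact Finset.sum_coe_sort (Finset.univ.erase i) (fun j => finrank F (D j))
  have h4 := Submodule.finrank_sup_add_finrank_inf_eq (D i) (⨆ (j) (_ : j ≠ i), D j)
  rw [← h1] at h4
  have h5 := Finset.add_sum_erase Finset.univ (fun j => finrank F (D j)) (Finset.mem_univ i)
  have h6 : finrank F ↥(D i ⊓ ⨆ (j) (_ : j ≠ i), D j) = 0 := by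
    omega
  rw [disjoint_iff]
  exact Submodule.finrank_eq_zero.1 h6

/-- For an independent finite family the dimension of the supremum is the sum of the dimensions. -/
lemma finrank_iSup_of_indep [FiniteDimensional F V] {ι : Type*} [Fintype ι] (D : ι → Submodule F V)
    (h : iSupIndep D) : finrank F ↥(⨆ i, D i) = ∑ i, finrank F (D i) := by
  classical
  have h' : ∀ s : Finset ι, finrank F ↥(⨆ i ∈ s, D i) = ∑ i ∈ s, finrank F (D i) := by
    intro s
    induction s using Finset.induction_on with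
    | empty => simp
    | insert a s ha ih =>
      rw [Finset.iSup_insert, Finset.sum_insert ha, finrank_sup_of_disj, ih]
      rw [← disjoint_iff]
      have := h.disjoint_biSup (x := a) (y := (s : Set ι)) (by simpa using ha)
      simpa using this
  have := h' Finset.univ
  rwa [show (⨆ i ∈ Finset.univ, D i) = ⨆ i, D i by simp] at this

/-- `U` has a decomposition into `t` subspaces of dimension `a` permuted by `x`. -/
def PD (x : Module.End F V) (a : ℕ) (U : Submodule F V) (t : ℕ) : Prop :=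
  ∃ D : Fin t → Submodule F V, (∀ i, finrank F (D i) = a) ∧ (⨆ i, D i) = U ∧ finrank F U = a * t ∧
    ∃ σ : Equiv.Perm (Fin t), ∀ j, (D j).map x = D (σ j)

variable {x y : Module.End F V} {a b r s t : ℕ} {U U' W : Submodule F V}

/-- Any finite index type will do. -/
lemma pd_of_fintype {ι : Type*} [Fintype ι] (ht : Fintype.card ι = t) (D : ι → Submodule F V)
    (h1 : ∀ i, finrank F (D i) = a) (h2 : (⨆ i, D i) = U) (h3 : finrank F U = a * t)
    (σ : Equiv.Perm ι) (h4 : ∀ j, (D j).map x = D (σ j)) : PD x a U t := by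
  let e : Fin t ≃ ι := (Fintype.equivFinOfCardEq ht).symm
  refine ⟨fun i => D (e i), fun i => h1 _, ?_, h3, (e.trans σ).trans e.symm, fun j => ?_⟩
  · rw [← h2]; exact e.iSup_comp (g := D)
  · simp [h4]

lemma PD.zero : PD x a ⊥ 0 :=
  ⟨fun i => i.elim0, fun i => i.elim0, by simp, by simp, Equiv.refl _, fun j => j.elim0⟩

lemma PD.sup [FiniteDimensional F V] (h : PD x a U s) (h' : PD x a U' t) (hd : U ⊓ U' = ⊥) :
    PD x a (U ⊔ U') (s + t) := by
  obtain ⟨D, h1, h2, h3, σ, h4⟩ := h
  obtain ⟨D', h1', h2', h3', σ', h4'⟩ := h'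
  refine pd_of_fintype (ι := Fin s ⊕ Fin t) (by simp) (Sum.elim D D') ?_ ?_ ?_ (Equiv.sumCongr σ σ') ?_
  · rintro (i | i)
    · exact h1 i
    · exact h1' i
  · rw [iSup_sum]; simp [h2, h2']
  · rw [finrank_sup_of_disj hd, h3, h3', mul_add]
  · rintro (j | j) <;> simp [h4, h4']

lemma finrank_map_inj (hx : Function.Injective x) (W : Submodule F V) :
    finrank F ↥(W.map x) = finrank F W :=
  (Submodule.equivMapOfInjective x hx W).finrank_eq.symm

lemma map_eq_of_inv (hx : Function.Injective x) [FiniteDimensional F V] (hW : Inv x W) : W.map x = W := by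
  apply Submodule.eq_of_le_of_finrank_eq (inv_iff_map.1 hW)
  exact finrank_map_inj hx W

lemma pd_one [FiniteDimensional F V] (hx : Function.Injective x) (hW : Inv x W) (ha : finrank F W = a) :
    PD x a W 1 :=
  ⟨fun _ => W, fun _ => ha, by simp, by simp [ha], Equiv.refl _, fun _ => map_eq_of_inv hx hW⟩

lemma PD.smul (h : PD x a U t) {c : F} (hc : c ≠ 0) : PD (c • x) a U t := by
  obtain ⟨D, h1, h2, h3, σ, h4⟩ := h
  refine ⟨D, h1, h2, h3, σ, fun j => ?_⟩
  rw [← h4, Submodule.map_smul _ _ _ hc]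

/-- `U = W ⊕ x W ⊕ ⋯ ⊕ x^{r-1} W` with `dim W = a`, `x^r W = W`. -/
def Cyc (x : Module.End F V) (r a : ℕ) (U : Submodule F V) : Prop :=
  ∃ W : Submodule F V, finrank F W = a ∧ (⨆ j : Fin r, W.map (x ^ (j : ℕ))) = U ∧ finrank F U = a * r ∧
    W.map (x ^ r) = W

lemma Cyc.zero : Cyc x r 0 ⊥ := ⟨⊥, by simp, by simp, by simp, by simp⟩

lemma map_one' (W : Submodule F V) : W.map (1 : Module.End F V) = W := Submodule.map_id W

lemma Cyc.le_of (hr : 0 < r) (h : (⨆ j : Fin r, W.map (x ^ (j : ℕ))) = U) : W ≤ U := by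
  rw [← h]
  refine le_iSup_of_le ⟨0, hr⟩ ?_
  simp [map_one']

lemma Cyc.sup [FiniteDimensional F V] (hr : 0 < r) (h : Cyc x r a U) (h' : Cyc x r b U') (hd : U ⊓ U' = ⊥) :
    Cyc x r (a + b) (U ⊔ U') := by
  obtain ⟨W, h1, h2, h3, h4⟩ := h
  obtain ⟨W', h1', h2', h3', h4'⟩ := h'
  have hfr : finrank F ↥(U ⊔ U') = (a + b) * r := by rw [finrank_sup_of_disj hd, h3, h3', add_mul]
  refine ⟨W ⊔ W', ?_, ?_, hfr, ?_⟩
  · have hW : W ≤ U := Cyc.le_of hr h2
    have hW' : W' ≤ U' := Cyc.le_of hr h2'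
    rw [finrank_sup_of_disj, h1, h1']
    rw [eq_bot_iff, ← hd]
    exact inf_le_inf hW hW'
  · simp only [Submodule.map_sup]
    rw [iSup_sup_eq, h2, h2']
  · rw [Submodule.map_sup, h4, h4']

lemma finrank_map_le (x : Module.End F V) [FiniteDimensional F V] (W : Submodule F V) :
    finrank F ↥(W.map x) ≤ finrank F W := Submodule.finrank_map_le x W

/-- A cyclic piece of rank `a + b` splits into cyclic pieces of ranks `a` and `b`. -/
lemma Cyc.split [FiniteDimensional F V] (hr : 0 < r) (hx : ∀ W : Submodule F V, W.map (x ^ r) = W)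
    (h : Cyc x r (a + b) U) :
    ∃ U₁ U₂, Cyc x r a U₁ ∧ Cyc x r b U₂ ∧ U₁ ⊓ U₂ = ⊥ ∧ U₁ ⊔ U₂ = U := by
  obtain ⟨W, h1, h2, h3, h4⟩ := h
  obtain ⟨W₁, W₂, e1, e2, e3, e4⟩ := exists_split W h1
  have hle : ∀ (W' : Submodule F V) (c : ℕ), finrank F W' = c →
      finrank F ↥(⨆ j : Fin r, W'.map (x ^ (j : ℕ))) ≤ c * r := by
    intro W' c hc
    refine (finrank_iSup_le _).trans ?_
    calc ∑ j : Fin r, finrank F ↥(W'.map (x ^ (j : ℕ))) ≤ ∑ _j : Fin r, c :=
          Finset.sum_le_sum fun j _ => hc ▸ Submodule.finrank_map_le (x ^ (j : ℕ)) W'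
      _ = c * r := by simp [mul_comm]
  have hl1 := hle W₁ a e1
  have hl2 := hle W₂ b e2
  have hsup : (⨆ j : Fin r, W₁.map (x ^ (j : ℕ))) ⊔ (⨆ j : Fin r, W₂.map (x ^ (j : ℕ))) = U := by
    rw [← iSup_sup_eq, ← h2]
    simp only [← Submodule.map_sup, e4]
  have hfr := Submodule.finrank_sup_add_finrank_inf_eq (⨆ j : Fin r, W₁.map (x ^ (j : ℕ)))
    (⨆ j : Fin r, W₂.map (x ^ (j : ℕ)))
  rw [hsup, h3, add_mul] at hfr
  refine ⟨_, _, ⟨W₁, e1, rfl, ?_, hx W₁⟩, ⟨W₂, e2, rfl, ?_, hx W₂⟩, ?_, hsup⟩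
  · omega
  · omega
  · apply Submodule.finrank_eq_zero.1
    omega

/-- A cyclic piece of rank `a` is permuted cyclically. -/
lemma Cyc.pd [FiniteDimensional F V] (hr : 0 < r) (hx : Function.Injective x)
    (h : Cyc x r a U) : PD x a U r := by
  obtain ⟨W, h1, h2, h3, h4⟩ := h
  obtain ⟨s, rfl⟩ : ∃ s, r = s + 1 := ⟨r - 1, by omega⟩
  have hinj : ∀ j : ℕ, Function.Injective (x ^ j) := by
    intro j
    rw [Module.End.coe_pow]
    exact hx.iterate j
  refine ⟨fun j => W.map (x ^ (j : ℕ)), fun j => ?_, h2, h3, finRotate (s + 1), fun j => ?_⟩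
  · rw [← h1]; exact finrank_map_inj (hinj j) W
  · have e : ∀ j : ℕ, (W.map (x ^ j)).map x = W.map (x ^ (j + 1)) := by
      intro j
      rw [pow_succ']
      exact (Submodule.map_comp (x ^ j) x W).symm
    show (W.map (x ^ (j : ℕ))).map x = W.map (x ^ ((finRotate (s + 1) j : Fin (s + 1)) : ℕ))
    rw [e]
    rcases Nat.lt_or_ge (j : ℕ) s with hj | hj
    · rw [finRotate_of_lt hj]
    · have hjs : j = Fin.last s := Fin.ext (le_antisymm (Nat.lt_succ_iff.1 j.2) hj)
      subst hjs
      rw [finRotate_last]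
      simp only [Fin.val_last, h4]
      exact (map_one' W).symm

lemma Cyc.inv (hr : 0 < r) (h : Cyc x r a U) : Inv x U := by
  obtain ⟨W, h1, h2, h3, h4⟩ := h
  obtain ⟨s, rfl⟩ : ∃ s, r = s + 1 := ⟨r - 1, by omega⟩
  rw [inv_iff_map, ← h2, Submodule.map_iSup]
  refine iSup_le fun j => ?_
  have e : ∀ j : ℕ, (W.map (x ^ j)).map x = W.map (x ^ (j + 1)) := by
    intro j
    rw [pow_succ']
    exact (Submodule.map_comp (x ^ j) x W).symm
  rw [e]
  rcases Nat.lt_or_ge (j : ℕ) s with hj | hj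
  · exact le_iSup (fun j : Fin (s + 1) => W.map (x ^ (j : ℕ))) ⟨j + 1, Nat.succ_lt_succ hj⟩
  · have : (j : ℕ) + 1 = s + 1 := by have := j.2; omega
    rw [this, h4]
    refine le_iSup_of_le (0 : Fin (s + 1)) ?_
    simp [map_one']

/-- Iterating `Cyc.split`: a cyclic piece of rank `a * t` is permuted, `t` cycles of length `r`. -/
lemma Cyc.pd_mul [FiniteDimensional F V] (hr : 0 < r) (hx : Function.Injective x)
    (hx' : ∀ W : Submodule F V, W.map (x ^ r) = W) (h : Cyc x r (a * t) U) : PD x a U (r * t) := by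
  induction t generalizing U with
  | zero =>
    obtain ⟨W, h1, h2, h3, h4⟩ := h
    have : U = ⊥ := Submodule.finrank_eq_zero.1 (by rw [h3]; simp)
    subst this
    exact PD.zero
  | succ t ih =>
    rw [mul_add, mul_one] at h
    obtain ⟨U₁, U₂, h1, h2, h3, h4⟩ := Cyc.split hr hx' h
    rw [← h4, mul_add, mul_one]
    exact (ih h1).sup (h2.pd hr hx) h3

/-- A cyclic piece whose rank is `a * t`, seen as `t` invariant pieces of dimension `a * r`. -/
lemma Cyc.pd_inv [FiniteDimensional F V] (hr : 0 < r) (hx : Function.Injective x)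
    (hx' : ∀ W : Submodule F V, W.map (x ^ r) = W) (h : Cyc x r (a * t) U) : PD x (a * r) U t := by
  induction t generalizing U with
  | zero =>
    obtain ⟨W, h1, h2, h3, h4⟩ := h
    have : U = ⊥ := Submodule.finrank_eq_zero.1 (by rw [h3]; simp)
    subst this
    exact PD.zero
  | succ t ih =>
    rw [mul_add, mul_one] at h
    obtain ⟨U₁, U₂, h1, h2, h3, h4⟩ := Cyc.split hr hx' h
    rw [← h4]
    have hfr : finrank F U₂ = a * r := by obtain ⟨_, _, _, h, _⟩ := h2; exact h
    exact (ih h1).sup (pd_one hx (h2.inv hr) hfr) h3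

end Cfsg.Agent.H951
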