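import Cfsg.Agent.H951.Lin
set_option linter.all false
/-!
# Elements of prime order with prescribed module structure; roots of scalars
-/

set_option autoImplicit false

namespace Cfsg.Agent.H951

open Module Polynomial

section scal

variable {F : Type*} [Field F] [Fintype F] {r : ℕ}

/-- If the order of `|F|` modulo the prime `r` is not `1` then `F` has no non-trivial `r`-th roots of unity. -/
lemma eq_one_of_pow_eq_one [Fact r.Prime] (hc : orderOf (Fintype.card F : ZMod r) ≠ 1) {d : F} (hd : d ^ r = 1) :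
    d = 1 := by
  classical
  have hrp : r.Prime := Fact.out
  have h1 : orderOf d ∣ r := orderOf_dvd_of_pow_eq_one hd
  rcases (Nat.dvd_prime hrp).1 h1 with h | h
  · exact orderOf_eq_one_iff.1 h
  · exfalso
    apply hc
    have hd0 : d ≠ 0 := by
      rintro rfl
      rw [zero_pow hrp.ne_zero] at hd
      exact zero_ne_one hd
    have h2 : d ^ (Fintype.card F - 1) = 1 := FiniteField.pow_card_sub_one_eq_one d hd0
    have h3 : r ∣ Fintype.card F - 1 := h ▸ orderOf_dvd_of_pow_eq_one h2
    have hpos : 1 ≤ Fintype.card F := Fintype.card_pos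
    rw [orderOf_eq_one_iff]
    have h4 : ((Fintype.card F - 1 : ℕ) : ZMod r) = 0 := (ZMod.natCast_eq_zero_iff _ _).2 h3
    rw [Nat.cast_sub hpos, sub_eq_zero] at h4
    simpa using h4

/-- If the order of `|F|` modulo the prime `r` is not `1` then every scalar is an `r`-th power. -/
lemma exists_pow_eq [Fact r.Prime] (hc : orderOf (Fintype.card F : ZMod r) ≠ 1) (z : F) : ∃ w : F, w ^ r = z := by
  have hrp : r.Prime := Fact.out
  have hinj : Function.Injective (fun w : F => w ^ r) := by
    intro u v huv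
    have huv : u ^ r = v ^ r := huv
    by_cases hv : v = 0
    · subst hv
      rw [zero_pow hrp.ne_zero] at huv
      exact pow_eq_zero_iff hrp.ne_zero |>.1 huv
    · have : (u / v) ^ r = 1 := by rw [div_pow, huv, div_self (pow_ne_zero _ hv)]
      have := eq_one_of_pow_eq_one hc this
      rw [div_eq_one_iff_eq hv] at this
      exact this
  exact (Finite.injective_iff_surjective.1 hinj) z

end scal

section transfer

variable {F V V' : Type*} [Field F] [AddCommGroup V] [Module F V] [AddCommGroup V'] [Module F V']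

/-- Transport of an operator along a linear equivalence. -/
noncomputable def tr (e : V ≃ₗ[F] V') : Module.End F V' ≃ₐ[F] Module.End F V := e.symm.conjAlgEquiv F

lemma tr_apply (e : V ≃ₗ[F] V') (x : Module.End F V') (v : V) : tr e x v = e.symm (x (e v)) := rfl

lemma cm_tr (e : V ≃ₗ[F] V') (x : Module.End F V') : cm (tr e x) = (cm x).map e.symm.toLinearMap := by
  ext v
  rw [Submodule.mem_map, mem_cm]
  constructor
  · rintro ⟨w, rfl⟩
    refine ⟨x (e w) - e w, mem_cm.2 ⟨e w, rfl⟩, ?_⟩
    rw [tr_apply]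
    simp
  · rintro ⟨w, hw, rfl⟩
    obtain ⟨u, rfl⟩ := mem_cm.1 hw
    exact ⟨e.symm u, by rw [tr_apply]; simp⟩

lemma fx_tr (e : V ≃ₗ[F] V') (x : Module.End F V') : fx (tr e x) = (fx x).map e.symm.toLinearMap := by
  ext v
  rw [Submodule.mem_map, mem_fx, tr_apply]
  constructor
  · intro h
    refine ⟨e v, mem_fx.2 ?_, by simp⟩
    rw [← e.apply_symm_apply (x (e v)), h]
  · rintro ⟨w, hw, rfl⟩
    rw [mem_fx] at hw
    simp [hw]

lemma finrank_cm_tr (e : V ≃ₗ[F] V') (x : Module.End F V') : finrank F ↥(cm (tr e x)) = finrank F ↥(cm x) := by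
  rw [cm_tr]
  exact LinearEquiv.finrank_map_eq e.symm _

lemma finrank_fx_tr (e : V ≃ₗ[F] V') (x : Module.End F V') : finrank F ↥(fx (tr e x)) = finrank F ↥(fx x) := by
  rw [fx_tr]
  exact LinearEquiv.finrank_map_eq e.symm _

lemma aeval_tr (e : V ≃ₗ[F] V') (x : Module.End F V') (P : F[X]) : aeval (tr e x) P = tr e (aeval x P) := by
  exact (Polynomial.aeval_algHom_apply (tr e).toAlgHom x P)

end transfer

section block

variable {F : Type*} [Field F] [Fintype F] {r : ℕ}

/-- For every irreducible factor `P` of the `r`-th cyclotomic polynomial and `c M ≤ n` (`c = deg P`) there is an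
operator `x` of `F^n` with `x^r = 1`, `dim [V, x] = c M`, and `P(x) = 0` on `[V, x]`. -/
lemma exists_end [Fact r.Prime] (hr : (r : F) ≠ 0) {P : F[X]} (hP : Irreducible P) (hd : P ∣ cyclotomic r F)
    {M n : ℕ} (hn : orderOf (Fintype.card F : ZMod r) * M ≤ n) :
    ∃ x : Module.End F (Fin n → F), x ^ r = 1 ∧ finrank F ↥(cm x) = orderOf (Fintype.card F : ZMod r) * M ∧
      ∀ v ∈ cm x, aeval x P v = 0 := by
  classical
  have hrp : r.Prime := Fact.out
  set c := orderOf (Fintype.card F : ZMod r) with hc
  have hfact : Fact (Irreducible P) := ⟨hP⟩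
  have hfd : FiniteDimensional F (AdjoinRoot P) := (AdjoinRoot.powerBasis hP.ne_zero).finite
  have hfr : finrank F (AdjoinRoot P) = c := by
    rw [(AdjoinRoot.powerBasis hP.ne_zero).finrank, AdjoinRoot.powerBasis_dim, natDegree_factor hr hP hd]
  set ζ : AdjoinRoot P := AdjoinRoot.root P with hζ
  have hPζ : aeval ζ P = 0 := by rw [hζ, AdjoinRoot.aeval_eq, AdjoinRoot.mk_self]
  have hΦ : aeval ζ (cyclotomic r F) = 0 := by
    obtain ⟨Q, hQ⟩ := hd
    rw [hQ, map_mul, hPζ, zero_mul]
  have hζr : ζ ^ r = 1 := by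
    have h1 : aeval ζ (cyclotomic r F * (X - 1)) = 0 := by rw [map_mul, hΦ, zero_mul]
    rw [cyclotomic_prime_mul_X_sub_one] at h1
    simpa [sub_eq_zero] using h1
  have hζ1 : ζ ≠ 1 := by
    intro h
    rw [h] at hΦ
    have h2 : aeval (1 : AdjoinRoot P) (cyclotomic r F) = algebraMap F (AdjoinRoot P) (eval 1 (cyclotomic r F)) := by
      have := Polynomial.aeval_algebraMap_apply (AdjoinRoot P) (1 : F) (cyclotomic r F)
      rw [_root_.map_one] at this
      rw [this, coe_aeval_eq_eval]
    rw [h2, eval_one_cyclotomic_prime] at hΦ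
    exact hr ((map_eq_zero (algebraMap F (AdjoinRoot P))).1 hΦ)
  let y : Module.End F (AdjoinRoot P) := LinearMap.mulLeft F ζ
  let V' := (Fin M → AdjoinRoot P) × (Fin (n - c * M) → F)
  let x' : Module.End F V' := LinearMap.prodMap (y.compLeft (Fin M)) LinearMap.id
  have hx'apply : ∀ w : V', x' w = (fun i => ζ * w.1 i, w.2) := fun w => rfl
  have hpow : ∀ (j : ℕ) (w : V'), (x' ^ j) w = (fun i => ζ ^ j * w.1 i, w.2) := by
    intro j
    induction j with
    | zero => intro w; simp
    | succ j ih =>
      intro w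
      rw [pow_succ', Module.End.mul_apply, ih, hx'apply]
      ext i
      · simp [pow_succ', mul_assoc]
      · rfl
  have hx'r : x' ^ r = 1 := by
    apply LinearMap.ext
    intro w
    rw [hpow, hζr]
    simp
  have haeval : ∀ (Q : F[X]) (w : V'), aeval x' Q w = (fun i => aeval ζ Q * w.1 i, (eval 1 Q) • w.2) := by
    intro Q
    induction Q using Polynomial.induction_on' with
    | add p q hp hq =>
      intro w
      rw [map_add, LinearMap.add_apply, hp, hq, map_add, eval_add]
      refine Prod.ext (funext fun i => ?_) (funext fun i => ?_)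
      · exact (add_mul _ _ _).symm
      · exact (add_mul _ _ _).symm
    | monomial n a =>
      intro w
      rw [aeval_monomial, Module.End.mul_apply, hpow, Module.algebraMap_end_apply, aeval_monomial, eval_monomial]
      refine Prod.ext (funext fun i => ?_) (funext fun i => ?_)
      · show a • (ζ ^ n * w.1 i) = algebraMap F (AdjoinRoot P) a * ζ ^ n * w.1 i
        rw [Algebra.smul_def, mul_assoc]
      · show a • w.2 i = (a * 1 ^ n) * w.2 i
        rw [one_pow, mul_one, smul_eq_mul]
  have hcm : ∀ w ∈ cm x', w.2 = 0 := by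
    intro w hw
    obtain ⟨u, rfl⟩ := mem_cm.1 hw
    rw [hx'apply]
    show u.2 - u.2 = 0
    rw [sub_self]
  have hfx : ∀ w, w ∈ fx x' ↔ w.1 = 0 := by
    intro w
    rw [mem_fx, hx'apply]
    constructor
    · intro h
      funext i
      have h1 : ζ * w.1 i = w.1 i := congrFun (congrArg Prod.fst h) i
      have h2 : (ζ - 1) * w.1 i = 0 := by rw [sub_mul, h1, one_mul, sub_self]
      exact (mul_eq_zero.1 h2).resolve_left (sub_ne_zero.2 hζ1)
    · intro h
      refine Prod.ext (funext fun i => ?_) rfl
      show ζ * w.1 i = w.1 i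
      rw [h]; simp
  have hfr' : finrank F V' = n := by
    rw [Module.finrank_prod, Module.finrank_pi_fintype, Module.finrank_fin_fun]
    simp only [hfr, Finset.sum_const, Finset.card_univ, Fintype.card_fin, smul_eq_mul]
    rw [mul_comm M c]
    omega
  have hfxd : finrank F ↥(fx x') = n - c * M := by
    let e : ↥(fx x') ≃ₗ[F] (Fin (n - c * M) → F) :=
      { toFun := fun w => w.1.2
        map_add' := fun _ _ => rfl
        map_smul' := fun _ _ => rfl
        invFun := fun g => ⟨(0, g), (hfx _).2 rfl⟩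
        left_inv := fun w => Subtype.ext (Prod.ext ((hfx _).1 w.2).symm rfl)
        right_inv := fun g => rfl }
    rw [LinearEquiv.finrank_eq e, Module.finrank_fin_fun]
  have hcmd : finrank F ↥(cm x') = c * M := by
    have := finrank_fx_add_cm (V := V') hr hx'r
    rw [hfxd, hfr'] at this
    omega
  let e : (Fin n → F) ≃ₗ[F] V' := LinearEquiv.ofFinrankEq _ _ (by rw [Module.finrank_fin_fun, hfr'])
  refine ⟨tr e x', ?_, ?_, ?_⟩
  · rw [← map_pow, hx'r, _root_.map_one]
  · rw [finrank_cm_tr, hcmd]
  · intro v hv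
    rw [cm_tr, Submodule.mem_map] at hv
    obtain ⟨w, hw, rfl⟩ := hv
    rw [aeval_tr, tr_apply]
    have h1 : e (e.symm w) = w := e.apply_symm_apply w
    have h2 : aeval x' P w = 0 := by
      rw [haeval, hPζ, hcm w hw]
      refine Prod.ext (funext fun i => ?_) (funext fun i => ?_)
      · show (0 : AdjoinRoot P) * w.1 i = 0
        rw [zero_mul]
      · show eval 1 P * 0 = 0
        rw [mul_zero]
    show e.symm (aeval x' P (e (e.symm w))) = 0
    rw [h1, h2, map_zero]

omit [Fintype F] in
/-- Existence of an irreducible factor of the cyclotomic polynomial. -/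
lemma exists_factor_cyclotomic (r : ℕ) [Fact r.Prime] : ∃ P : F[X], Irreducible P ∧ P ∣ cyclotomic r F := by
  have hrp : r.Prime := Fact.out
  obtain ⟨P, hP, hd⟩ := WfDvdMonoid.exists_irreducible_factor (a := cyclotomic r F)
    (Polynomial.not_isUnit_of_degree_pos _ (degree_cyclotomic_pos r F hrp.pos)) (cyclotomic_ne_zero r F)
  exact ⟨P, hP, hd⟩

/-- An operator of `F^n` with `x^r = 1` is given by a matrix of determinant one, when the order of `|F|`
modulo `r` is not `1`. -/
lemma exists_sl [Fact r.Prime] (hc : orderOf (Fintype.card F : ZMod r) ≠ 1) {n : ℕ} (x : Module.End F (Fin n → F))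
    (hx : x ^ r = 1) : ∃ A : Matrix.SpecialLinearGroup (Fin n) F, Matrix.toLin' (A : Matrix (Fin n) (Fin n) F) = x ∧
      (A : Matrix (Fin n) (Fin n) F) ^ r = 1 := by
  have h1 : (LinearMap.toMatrix' x) ^ r = 1 := by
    apply Matrix.toLin'.injective
    rw [Matrix.toLin'_pow, Matrix.toLin'_toMatrix', hx, Matrix.toLin'_one]
    rfl
  have hdet : (LinearMap.toMatrix' x).det = 1 := by
    apply eq_one_of_pow_eq_one hc
    rw [← Matrix.det_pow, h1, Matrix.det_one]
  exact ⟨⟨LinearMap.toMatrix' x, hdet⟩, Matrix.toLin'_toMatrix' x, h1⟩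

end block

end Cfsg.Agent.H951
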