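import Cfsg.Agent.H951.Main
import Cfsg.Agent.H951.UMat
set_option linter.all false

-- part: H951/Step
section
/-!
# Inductive construction of nondegenerate invariant subspaces; anti-isometric involutions
-/

set_option autoImplicit false
set_option linter.unusedSectionVars false
set_option linter.unusedVariables false

namespace Cfsg.Agent.H951

open Module Polynomial

variable {F V : Type*} [Field F] [AddCommGroup V] [Module F V] [FiniteDimensional F V]
variable {σ : F →+* F} {ε : F} {B : V → V → F} {U W : Submodule F V} {x : Module.End F V}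

/-- From blocks of dimension `c` to all dimensions `c j`. -/
theorem exists_nd_of_step (hB : Frm σ ε B) (hperp : ∀ W, Inv x W → Inv x (hB.perp W)) {c : ℕ} (hc : 0 < c)
    (step : ∀ W, Inv x W → Nd B W → W ≠ ⊥ → ∃ W' ≤ W, Inv x W' ∧ Nd B W' ∧ finrank F W' = c)
    (hW : Inv x W) (hWn : Nd B W) {j : ℕ} (hj : c * j ≤ finrank F W) :
    ∃ W' ≤ W, Inv x W' ∧ Nd B W' ∧ finrank F W' = c * j := by
  induction j with
  | zero => exact ⟨⊥, bot_le, inv_bot, nd_bot, by simp⟩
  | succ j ih =>
    obtain ⟨W₁, h1, h2, h3, h4⟩ := ih (le_trans (Nat.mul_le_mul_left _ (Nat.le_succ j)) hj)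
    have hT := hB.finrank_perp_inf h3 h1
    have hTn := hB.nd_perp_inf hWn h3 h1
    have hTi : Inv x (hB.perp W₁ ⊓ W) := (hperp _ h2).inf hW
    have hT0 : hB.perp W₁ ⊓ W ≠ ⊥ := by
      intro h0
      rw [h0, finrank_bot, h4] at hT
      rw [mul_add, mul_one] at hj
      omega
    obtain ⟨W₂, k1, k2, k3, k4⟩ := step _ hTi hTn hT0
    have h5 := hB.nd_sup k3 h3 (k1.trans inf_le_left)
    refine ⟨W₂ ⊔ W₁, sup_le (k1.trans inf_le_right) h1, k2.sup h2, h5.1, ?_⟩
    rw [finrank_sup_of_disj h5.2, k4, h4]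
    ring

section anti

variable {y : Module.End F V}

lemma ti_fx_of_anti (h2 : (2 : F) ≠ 0) (hy : ∀ u v, B (y u) (y v) = -1 * B u v) (hB : Frm σ ε B) : TI B (fx y) := by
  intro u hu v hv
  have h := hy u v
  rw [mem_fx.1 hu, mem_fx.1 hv] at h
  have h3 : 2 * B u v = 0 := by linear_combination h
  rcases mul_eq_zero.1 h3 with h | h
  · exact absurd h h2
  · exact h

lemma apply_cm_of_sq (hy2 : y ^ 2 = 1) {u : V} (hu : u ∈ cm y) : y u = -u := by
  obtain ⟨w, rfl⟩ := mem_cm.1 hu
  have h : y (y w) = w := by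
    rw [← Module.End.mul_apply, ← pow_two, hy2]; rfl
  rw [map_sub, h]; abel

lemma ti_cm_of_anti (h2 : (2 : F) ≠ 0) (hy2 : y ^ 2 = 1) (hy : ∀ u v, B (y u) (y v) = -1 * B u v) (hB : Frm σ ε B) :
    TI B (cm y) := by
  intro u hu v hv
  have h := hy u v
  rw [apply_cm_of_sq hy2 hu, apply_cm_of_sq hy2 hv, hB.neg_left, hB.neg_right] at h
  have h3 : 2 * B u v = 0 := by linear_combination h
  rcases mul_eq_zero.1 h3 with h | h
  · exact absurd h h2
  · exact h

lemma two_ne_zero_cast (h2 : (2 : F) ≠ 0) : ((2 : ℕ) : F) ≠ 0 := by exact_mod_cast h2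

/-- For an anti-isometric involution, `W ∩ V_+` and `W ∩ V_-` have half the dimension of a nondegenerate
invariant `W`. -/
lemma finrank_of_anti (h2 : (2 : F) ≠ 0) (hy2 : y ^ 2 = 1) (hy : ∀ u v, B (y u) (y v) = -1 * B u v) (hB : Frm σ ε B)
    (hW : Inv y W) (hWn : Nd B W) :
    2 * finrank F ↥(W ⊓ fx y) = finrank F W ∧ 2 * finrank F ↥(W ⊓ cm y) = finrank F W := by
  have h3 := hB.two_mul_finrank_le hWn (inf_le_left : W ⊓ fx y ≤ W) ((ti_fx_of_anti h2 hy hB).mono inf_le_right)
  have h4 := hB.two_mul_finrank_le hWn (inf_le_left : W ⊓ cm y ≤ W) ((ti_cm_of_anti h2 hy2 hy hB).mono inf_le_right)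
  have h5 := finrank_inf_add (two_ne_zero_cast h2) hy2 hW
  omega

lemma even_of_anti (h2 : (2 : F) ≠ 0) (hy2 : y ^ 2 = 1) (hy : ∀ u v, B (y u) (y v) = -1 * B u v) (hB : Frm σ ε B)
    (hW : Inv y W) (hWn : Nd B W) : Even (finrank F W) := by
  have h := finrank_of_anti h2 hy2 hy hB hW hWn
  exact ⟨finrank F ↥(W ⊓ fx y), by omega⟩

lemma injective_of_sq (hy2 : y ^ 2 = 1) : Function.Injective y := by
  intro u v h
  have h1 : ∀ w, y (y w) = w := fun w => by rw [← Module.End.mul_apply, ← pow_two, hy2]; rfl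
  rw [← h1 u, ← h1 v, h]

/-- Nondegenerate invariant planes. -/
lemma step_of_anti (h2 : (2 : F) ≠ 0) (hy2 : y ^ 2 = 1) (hy : ∀ u v, B (y u) (y v) = -1 * B u v) (hB : Frm σ ε B)
    (W : Submodule F V) (hW : Inv y W) (hWn : Nd B W) (h0 : W ≠ ⊥) :
    ∃ W' ≤ W, Inv y W' ∧ Nd B W' ∧ finrank F W' = 2 := by
  have hf := ti_fx_of_anti h2 hy hB
  have hc := ti_cm_of_anti h2 hy2 hy hB
  have h3 := (finrank_of_anti h2 hy2 hy hB hW hWn).1
  have h4 : 0 < finrank F W := by
    rw [Nat.pos_iff_ne_zero]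
    exact fun h => h0 (Submodule.finrank_eq_zero.1 h)
  have h5 : W ⊓ fx y ≠ ⊥ := by
    intro h; rw [h, finrank_bot] at h3; omega
  obtain ⟨u, hu, hu0⟩ := (Submodule.ne_bot_iff _).1 h5
  obtain ⟨v, hv, huv⟩ := hWn u hu.1 hu0
  rw [← inf_fx_sup_inf_cm (two_ne_zero_cast h2) hy2 hW] at hv
  obtain ⟨a, ha, b, hb, rfl⟩ := Submodule.mem_sup.1 hv
  rw [hB.add_right, hf u hu.2 a ha.2, zero_add] at huv
  have hbu : B b u ≠ 0 := fun h => huv (hB.eq_zero_comm.1 h)
  have hb0 : b ≠ 0 := by rintro rfl; exact huv (hB.zero_right _)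
  refine ⟨F ∙ u ⊔ F ∙ b, sup_le ((Submodule.span_singleton_le_iff_mem _ _).2 hu.1)
      ((Submodule.span_singleton_le_iff_mem _ _).2 hb.1), ?_, ?_, ?_⟩
  · apply Inv.sup
    · intro w hw
      obtain ⟨s, rfl⟩ := Submodule.mem_span_singleton.1 hw
      rw [map_smul, mem_fx.1 hu.2]
      exact hw
    · intro w hw
      obtain ⟨s, rfl⟩ := Submodule.mem_span_singleton.1 hw
      rw [map_smul, apply_cm_of_sq hy2 hb.2, smul_neg]
      exact Submodule.neg_mem _ hw
  · intro w hw hw0
    obtain ⟨w₁, hw₁, w₂, hw₂, rfl⟩ := Submodule.mem_sup.1 hw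
    obtain ⟨s, rfl⟩ := Submodule.mem_span_singleton.1 hw₁
    obtain ⟨t, rfl⟩ := Submodule.mem_span_singleton.1 hw₂
    by_cases hs : s = 0
    · refine ⟨u, Submodule.mem_sup_left (Submodule.mem_span_singleton_self u), ?_⟩
      subst hs
      have ht : t ≠ 0 := by rintro rfl; apply hw0; simp
      rw [zero_smul, zero_add, hB.smul_left]
      exact mul_ne_zero ht hbu
    · refine ⟨b, Submodule.mem_sup_right (Submodule.mem_span_singleton_self b), ?_⟩
      rw [hB.add_left, hB.smul_left, hB.smul_left, hc b hb.2 b hb.2, mul_zero, add_zero]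
      exact mul_ne_zero hs huv
  · have hd : F ∙ u ⊓ F ∙ b = ⊥ := by
      rw [eq_bot_iff]
      intro w hw
      obtain ⟨s, rfl⟩ := Submodule.mem_span_singleton.1 hw.1
      obtain ⟨t, ht⟩ := Submodule.mem_span_singleton.1 hw.2
      have h6 : B (t • b) u = 0 := by
        rw [ht, hB.smul_left, hf u hu.2 u hu.2, mul_zero]
      rw [hB.smul_left] at h6
      have ht0 : t = 0 := (mul_eq_zero.1 h6).resolve_right hbu
      rw [← ht, ht0, zero_smul]
      exact Submodule.zero_mem _
    rw [finrank_sup_of_disj hd, finrank_span_singleton hu0, finrank_span_singleton hb0]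

/-- Nondegenerate invariant subspaces of every even dimension. -/
theorem exists_nd_of_anti (h2 : (2 : F) ≠ 0) (hy2 : y ^ 2 = 1) (hy : ∀ u v, B (y u) (y v) = -1 * B u v)
    (hB : Frm σ ε B) (hV : Nd B (⊤ : Submodule F V)) {m : ℕ} (hm : Even m) (hmV : m ≤ finrank F V) :
    ∃ W : Submodule F V, Inv y W ∧ Nd B W ∧ finrank F W = m := by
  obtain ⟨j, rfl⟩ := hm
  obtain ⟨W, -, h1, h2, h3⟩ := exists_nd_of_step hB
    (fun W hW => inv_perp_of_sim hB hy (injective_of_sq hy2) hW) two_pos
    (step_of_anti h2 hy2 hy hB) (W := ⊤) (fun _ _ => trivial) hV (j := j) (by rw [finrank_top]; omega)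
  exact ⟨W, h1, h2, by omega⟩

/-- Involutive isometries: nondegenerate invariant subspaces of every (resp. even) dimension. -/
theorem exists_nd_of_invol (h2 : (2 : F) ≠ 0) (hy2 : y ^ 2 = 1) (hy : Isom B y) (hB : Frm σ ε B) (hK : Kind σ ε B)
    (hV : Nd B (⊤ : Submodule F V)) {m : ℕ} (hm : σ = RingHom.id F → Even m) (hmV : m ≤ finrank F V) :
    ∃ W : Submodule F V, Inv y W ∧ Nd B W ∧ finrank F W = m := by
  have hr := two_ne_zero_cast h2
  have hc := hy.nd_cm hB hr hy2 hV
  have hf := hy.nd_fx hB hr hy2 hV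
  have hd := finrank_fx_cm hr hy2
  obtain ⟨W₁, hW₁, hn₁, hd₁⟩ := exists_nd_sub hB hK hc (k := min m (finrank F ↥(cm y))) (min_le_right _ _) (by
    intro h
    rcases le_total m (finrank F ↥(cm y)) with h6 | h6
    · rw [min_eq_left h6]; exact hm h
    · rw [min_eq_right h6]; exact even_of_kind hB hK hc h)
  obtain ⟨W₂, hW₂, hn₂, hd₂⟩ := exists_nd_sub hB hK hf (k := m - min m (finrank F ↥(cm y))) (by omega) (by
    intro h
    rcases le_total m (finrank F ↥(cm y)) with h6 | h6
    · rw [min_eq_left h6, Nat.sub_self]; exact Even.zero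
    · rw [min_eq_right h6]
      obtain ⟨a, ha⟩ := hm h
      obtain ⟨b, hb⟩ := even_of_kind hB hK hc h
      exact ⟨a - b, by omega⟩)
  have hi₁ : Inv y W₁ := by
    intro v hv
    rw [apply_cm_of_sq hy2 (hW₁ hv)]
    exact W₁.neg_mem hv
  obtain ⟨g1, g2, g3⟩ := glue_nd hB hy hW₁ hW₂ hi₁ hn₁ hn₂
  refine ⟨_, g1, g2, ?_⟩
  rw [g3, hd₁, hd₂]
  omega

/-- The determinant of an involution. -/
theorem det_of_invol (h2 : (2 : F) ≠ 0) (hy2 : y ^ 2 = 1) : LinearMap.det y = (-1) ^ finrank F ↥(cm y) := by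
  have hc := isCompl_fx_cm (two_ne_zero_cast h2) hy2
  let e := Submodule.prodEquivOfIsCompl (fx y) (cm y) hc
  have h : y = e.conj ((LinearMap.id : fx y →ₗ[F] fx y).prodMap ((-1 : F) • (LinearMap.id : cm y →ₗ[F] cm y))) := by
    ext v
    obtain ⟨⟨a, b⟩, rfl⟩ := e.surjective v
    rw [LinearEquiv.conj_apply_apply, e.symm_apply_apply]
    have e1 : e (a, b) = (a : V) + b := Submodule.coe_prodEquivOfIsCompl' _ _ _ (a, b)
    have e2 : e ((LinearMap.id : fx y →ₗ[F] fx y).prodMap ((-1 : F) • (LinearMap.id : cm y →ₗ[F] cm y)) (a, b)) =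
      (a : V) + ((-1 : F) • b : cm y) := Submodule.coe_prodEquivOfIsCompl' _ _ _ (a, (-1 : F) • b)
    rw [e1, e2, map_add, mem_fx.1 a.2, apply_cm_of_sq hy2 b.2]
    simp
  have h3 : LinearMap.det y = LinearMap.det ((LinearMap.id : fx y →ₗ[F] fx y).prodMap
      ((-1 : F) • (LinearMap.id : cm y →ₗ[F] cm y))) := by
    conv_lhs => rw [h]
    exact LinearMap.det_conj ((LinearMap.id : fx y →ₗ[F] fx y).prodMap
      ((-1 : F) • (LinearMap.id : cm y →ₗ[F] cm y))) e
  rw [h3, LinearMap.det_prodMap, LinearMap.det_id, LinearMap.det_smul, LinearMap.det_id, one_mul, mul_one]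

end anti

end Cfsg.Agent.H951
end

-- part: H951/UNum
section
/-!
# Consequences of `r ∣ #Ω` (unitary, nondegenerate), and the case `r ≠ 2, p`, `i ≠ 2`
-/

set_option autoImplicit false
set_option linter.unusedSectionVars false
set_option linter.unusedVariables false

namespace Cfsg.Agent.H951

open Module Polynomial Cfsg

variable {F : Type*} [Field F] [Fintype F] {q n r : ℕ}

/-- The factor of the order of `GU_n`. -/
def uf (q k : ℕ) : ℕ := if Even k then q ^ (k + 1) + 1 else q ^ (k + 1) - 1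

lemma uf_pos (hq : 2 ≤ q) (k : ℕ) : 0 < uf q k := by
  unfold uf
  have : 2 ^ 1 ≤ q ^ (k + 1) := (Nat.pow_le_pow_left hq 1).trans (Nat.pow_le_pow_right (by omega) (by omega))
  split_ifs <;> omega

lemma uf_dvd_iff [Fact r.Prime] (hr2 : r ≠ 2) {i c : ℕ} (hq : 0 < q) (hi : i = orderOf (q : ZMod r))
    (hi0 : 0 < i) (hc : c = if i % 4 = 0 then i else if i % 4 = 2 then i / 2 else 2 * i) (k : ℕ) :
    r ∣ uf q k ↔ c ∣ k + 1 := by
  rw [← dvd_iff_c (q := q) hr2 hq hi hi0 hc (k := k + 1) (by omega), uf]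
  rcases Nat.even_or_odd k with he | ho
  · rw [if_pos he, if_neg (by rw [Nat.not_even_iff_odd]; exact he.add_one)]
  · rw [if_neg (Nat.not_even_iff_odd.2 ho), if_pos ho.add_one]

/-- If a prime `r` not dividing `q` divides the number of nondegenerate `m`-spaces, it divides one of the factors
`q^j - (-1)^j`, `n - m < j ≤ n`. -/
theorem exists_dvd_uf (hF : Fintype.card F = q ^ 2) {m : ℕ} (hm : m ≤ n) [Fact r.Prime] (hrq : ¬ r ∣ q)
    (hΩ : r ∣ Nat.card {W : Submodule F (Fin n → F) // finrank F ↥W = m ∧ Nd (hermForm n F q) W}) :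
    ∃ k, r ∣ uf q k ∧ n - m ≤ k ∧ k < n := by
  have hrP : r.Prime := Fact.out
  have hq := ClassicalGeometry.GUBasic.two_le hF
  have h1 := card_nd_unitary hF hm
  rw [Cfsg.Agent.S0277.result hF n, Cfsg.Agent.S0277.result hF (n - m)] at h1
  change _ * (_ * (_ * ∏ k ∈ Finset.range (n - m), uf q k)) = _ * ∏ k ∈ Finset.range n, uf q k at h1
  rw [← Finset.prod_range_mul_prod_Ico _ (Nat.sub_le n m)] at h1
  have hpos : 0 < ∏ k ∈ Finset.range (n - m), uf q k := Finset.prod_pos fun k _ => uf_pos hq k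
  have h2 : (Nat.card {W : Submodule F (Fin n → F) // finrank F ↥W = m ∧ Nd (hermForm n F q) W} *
      (Nat.card (Cfsg.GU m F q) * q ^ ((n - m) * (n - m - 1) / 2))) * (∏ k ∈ Finset.range (n - m), uf q k) =
      (q ^ (n * (n - 1) / 2) * ∏ k ∈ Finset.Ico (n - m) n, uf q k) * (∏ k ∈ Finset.range (n - m), uf q k) := by
    calc _ = Nat.card {W : Submodule F (Fin n → F) // finrank F ↥W = m ∧ Nd (hermForm n F q) W} *
        (Nat.card (Cfsg.GU m F q) * (q ^ ((n - m) * (n - m - 1) / 2) * ∏ k ∈ Finset.range (n - m), uf q k)) := by ring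
      _ = _ := h1
      _ = _ := by ring
  have h3 := Nat.eq_of_mul_eq_mul_right hpos h2
  have h4 : r ∣ q ^ (n * (n - 1) / 2) * ∏ k ∈ Finset.Ico (n - m) n, uf q k := by
    rw [← h3]
    exact hΩ.mul_right _
  have h5 : r ∣ ∏ k ∈ Finset.Ico (n - m) n, uf q k :=
    (hrP.dvd_mul.1 h4).resolve_left fun h => hrq (hrP.dvd_of_dvd_pow h)
  obtain ⟨k, hk, hk2⟩ := (hrP.prime.dvd_finsetProd_iff _).1 h5
  rw [Finset.mem_Ico] at hk
  exact ⟨k, hk2, hk.1, hk.2⟩

lemma not_dvd_of_ord [Fact r.Prime] {i : ℕ} (hi : i = orderOf (q : ZMod r)) (hi0 : 0 < i) : ¬ r ∣ q :=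
  fun h => natCast_ne_zero_of_ord hi hi0 ((ZMod.natCast_eq_zero_iff _ _).2 h)

/-- The consequence for `n mod c`. -/
theorem mod_lt_of_dvd (hF : Fintype.card F = q ^ 2) {m : ℕ} (hm : m ≤ n) [Fact r.Prime] (hr2 : r ≠ 2)
    {i c : ℕ} (hi : i = orderOf (q : ZMod r)) (hi0 : 0 < i)
    (hc : c = if i % 4 = 0 then i else if i % 4 = 2 then i / 2 else 2 * i)
    (hΩ : r ∣ Nat.card {W : Submodule F (Fin n → F) // finrank F ↥W = m ∧ Nd (hermForm n F q) W}) :
    c ≤ n ∧ n % c < m := by
  have hq := ClassicalGeometry.GUBasic.two_le hF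
  obtain ⟨k, hk, h1, h2⟩ := exists_dvd_uf hF hm (not_dvd_of_ord hi hi0) hΩ
  rw [uf_dvd_iff hr2 (by omega) hi hi0 hc] at hk
  obtain ⟨t, ht⟩ := hk
  have h3 := Nat.div_add_mod n c
  have hc0 : 0 < c := by rw [hc]; split_ifs <;> omega
  have ht0 : t ≠ 0 := by rintro rfl; omega
  have h4 : c * 1 ≤ c * t := Nat.mul_le_mul_left _ (Nat.pos_of_ne_zero ht0)
  refine ⟨by omega, ?_⟩
  have h5 : t ≤ n / c := (Nat.le_div_iff_mul_le hc0).2 (by rw [mul_comm]; omega)
  have h6 : c * t ≤ c * (n / c) := Nat.mul_le_mul_left _ h5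
  omega

/-- The scalar `z = x^r` of an isometry has norm one. -/
lemma norm_of_scalar {σ : F →+* F} (hσ : ∀ a, σ a = a ^ q) {V : Type*} [AddCommGroup V] [Module F V] {B : V → V → F}
    (hB : Frm σ 1 B) (hV : Nd B (⊤ : Submodule F V)) (hne : ∃ v : V, v ≠ 0) {T : Module.End F V} (hT : Isom B T)
    {z : F} (hz : T ^ r = z • 1) : z ^ (q + 1) = 1 := by
  obtain ⟨u, hu⟩ := hne
  obtain ⟨v, -, huv⟩ := hV u trivial hu
  have h1 := hT.pow r u v
  rw [hz] at h1
  change B (z • u) (z • v) = B u v at h1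
  rw [hB.smul_left, hB.smul_right, hσ] at h1
  have h2 : (z * z ^ q - 1) * B u v = 0 := by linear_combination h1
  rcases mul_eq_zero.1 h2 with h | h
  · rw [pow_succ']; linear_combination h
  · exact absurd h huv

/-- Scaling an isometry by an element of norm one. -/
lemma isom_smul {σ : F →+* F} (hσ : ∀ a, σ a = a ^ q) {V : Type*} [AddCommGroup V] [Module F V] {B : V → V → F}
    (hB : Frm σ 1 B) {T : Module.End F V} (hT : Isom B T) {w : F} (hw : w ^ (q + 1) = 1) : Isom B (w • T) := by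
  intro u v
  rw [LinearMap.smul_apply, LinearMap.smul_apply, hB.smul_left, hB.smul_right, hT, hσ]
  rw [pow_succ'] at hw
  linear_combination (B u v) * hw

lemma inv_smul_iff {V : Type*} [AddCommGroup V] [Module F V] {T : Module.End F V} {w : F} (hw : w ≠ 0)
    {W : Submodule F V} : Inv (w • T) W ↔ Inv T W := by
  constructor
  · intro h v hv
    have := W.smul_mem w⁻¹ (h v hv)
    rw [LinearMap.smul_apply, smul_smul, inv_mul_cancel₀ hw, one_smul] at this
    exact this
  · intro h v hv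
    exact W.smul_mem _ (h v hv)

lemma smul_pow_end {V : Type*} [AddCommGroup V] [Module F V] (T : Module.End F V) (w : F) (k : ℕ) :
    (w • T) ^ k = w ^ k • T ^ k := _root_.smul_pow w T k

/-- Roots of norm-one scalars, `gcd(r, q+1) = 1`. -/
lemma exists_root_of_coprime {z : F} (hz : z ^ (q + 1) = 1) (hco : Nat.Coprime r (q + 1)) :
    ∃ w : F, w ^ (q + 1) = 1 ∧ w ^ r = z := by
  rcases Nat.eq_zero_or_pos q with h0 | hpos
  · subst h0
    rw [zero_add, pow_one] at hz
    exact ⟨1, by simp, by rw [hz]; simp⟩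
  obtain ⟨s, -, hs⟩ := Nat.exists_mul_mod_eq_one_of_coprime hco (by omega)
  refine ⟨z ^ s, by rw [← pow_mul, mul_comm, pow_mul, hz, one_pow], ?_⟩
  rw [← pow_mul, mul_comm, ← Nat.div_add_mod (r * s) (q + 1), hs, pow_succ, pow_mul, hz, one_pow, one_mul]

end Cfsg.Agent.H951
end

-- part: H951/Mono
section
/-!
# Isometries whose `r`-th power is a scalar: determinants, and monomial examples
-/

set_option autoImplicit false
set_option linter.unusedSectionVars false
set_option linter.unusedVariables false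

namespace Cfsg.Agent.H951

open Module Polynomial Cfsg

/-- The determinant of `T` with `T^r = z` not an `r`-th power. -/
theorem det_of_pow_eq {F V : Type*} [Field F] [AddCommGroup V] [Module F V] [FiniteDimensional F V]
    {T : Module.End F V} {z : F} {r : ℕ} (hr : r.Prime) (hz : ∀ b : F, b ^ r ≠ z) (hT : T ^ r = z • 1) :
    ∃ k, finrank F V = r * k ∧ LinearMap.det T = ((-1) ^ (r - 1) * z) ^ k := by
  set f : F[X] := X ^ r - C z with hf
  have hirr : Irreducible f := X_pow_sub_C_irreducible_of_prime hr hz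
  have hfm : f.Monic := monic_X_pow_sub_C z hr.ne_zero
  have hfd : f.natDegree = r := natDegree_X_pow_sub_C
  have : Fact (Irreducible f) := ⟨hirr⟩
  have haev : aeval T f = 0 := by
    rw [hf, map_sub, map_pow, aeval_X, aeval_C, hT, sub_eq_zero]
    rfl
  have hM : Module.IsTorsionBySet F[X] (Module.AEval' T) (Ideal.span {f} : Ideal F[X]) := by
    rw [Module.isTorsionBySet_span_singleton_iff]
    intro m
    obtain ⟨v, rfl⟩ := (Module.AEval'.of T).surjective m
    have : f • (Module.AEval'.of T v) = Module.AEval'.of T ((aeval T f) v) := rfl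
    rw [this, haev, LinearMap.zero_apply, map_zero]
  let _ : Module (AdjoinRoot f) (Module.AEval' T) := hM.module
  have : IsScalarTower F (AdjoinRoot f) (Module.AEval' T) := hM.isScalarTower
  have : Module.Finite F (AdjoinRoot f) := hfm.finite_adjoinRoot
  have : FiniteDimensional F (Module.AEval' T) := Module.Finite.equiv (Module.AEval'.of T)
  have : Module.Finite (AdjoinRoot f) (Module.AEval' T) := Module.Finite.right F _ _
  have hE : finrank F (AdjoinRoot f) = r := by
    rw [(AdjoinRoot.powerBasis hirr.ne_zero).finrank, AdjoinRoot.powerBasis_dim, hfd]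
  have hroot : ∀ v : V, (AdjoinRoot.root f) • (Module.AEval'.of T v) = Module.AEval'.of T (T v) := fun v =>
    (Module.IsTorsionBySet.mk_smul hM X _).trans (Module.AEval'.X_smul_of T v)
  let D : Module.AEval' T →ₗ[AdjoinRoot f] Module.AEval' T := (AdjoinRoot.root f) • LinearMap.id
  have hD : (D.restrictScalars F) = (Module.AEval'.of T).conj T := by
    ext m
    obtain ⟨v, rfl⟩ := (Module.AEval'.of T).surjective m
    rw [LinearEquiv.conj_apply_apply, LinearEquiv.symm_apply_apply]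
    exact hroot v
  have h1 : LinearMap.det (D.restrictScalars F) = LinearMap.det T := by
    rw [hD]
    exact LinearMap.det_conj T (Module.AEval'.of T)
  have h2 : LinearMap.det D = AdjoinRoot.root f ^ finrank (AdjoinRoot f) (Module.AEval' T) := by
    rw [LinearMap.det_smul, LinearMap.det_id, mul_one]
  refine ⟨finrank (AdjoinRoot f) (Module.AEval' T), ?_, ?_⟩
  · rw [← hE, Module.finrank_mul_finrank]
    exact (Module.AEval'.of T).finrank_eq
  · rw [← h1, LinearMap.det_restrictScalars, h2, map_pow]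
    congr 1
    have h3 := Algebra.PowerBasis.norm_gen_eq_coeff_zero_minpoly (AdjoinRoot.powerBasis hirr.ne_zero)
    rw [AdjoinRoot.powerBasis_gen, AdjoinRoot.powerBasis_dim, hfd, AdjoinRoot.minpoly_root hirr.ne_zero,
      hfm.leadingCoeff, inv_one, map_one, mul_one] at h3
    rw [h3, hf]
    obtain ⟨s, hs⟩ : ∃ s, r = s + 1 := ⟨r - 1, by have := hr.pos; omega⟩
    subst hs
    simp [pow_succ]

/-- Invariant subspaces have dimension divisible by `r`. -/
theorem dvd_finrank_of_pow_eq {F V : Type*} [Field F] [AddCommGroup V] [Module F V] [FiniteDimensional F V]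
    {T : Module.End F V} {z : F} {r : ℕ} (hr : r.Prime) (hz : ∀ b : F, b ^ r ≠ z) (hT : T ^ r = z • 1)
    {W : Submodule F V} (hW : Inv T W) : r ∣ finrank F W := by
  let T' : Module.End F W := LinearMap.restrict T hW
  have h1 : ∀ (n : ℕ) (w : W), ((T' ^ n) w : V) = (T ^ n) w := by
    intro n
    induction n with
    | zero => intro w; rfl
    | succ n ih =>
      intro w
      rw [pow_succ, pow_succ, Module.End.mul_apply, Module.End.mul_apply, ih]
      rfl
  have h2 : T' ^ r = z • 1 := by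
    ext w
    rw [h1, hT]
    rfl
  obtain ⟨k, hk, -⟩ := det_of_pow_eq hr hz h2
  exact ⟨k, hk⟩

section mono

variable {F : Type*} [Field F] {q : ℕ}

/-- The operator `v ↦ (i ↦ a i * v (π i))`. -/
def mono {ι : Type*} (a : ι → F) (π : Equiv.Perm ι) : Module.End F (ι → F) where
  toFun v i := a i * v (π i)
  map_add' u v := by ext i; simp [mul_add]
  map_smul' c v := by ext i; simp; ring

lemma mono_apply {ι : Type*} (a : ι → F) (π : Equiv.Perm ι) (v : ι → F) (i : ι) : mono a π v i = a i * v (π i) := rfl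

lemma mono_pow {ι : Type*} (a : ι → F) (π : Equiv.Perm ι) (k : ℕ) (v : ι → F) (i : ι) :
    (mono a π ^ k) v i = (∏ t ∈ Finset.range k, a ((π ^ t) i)) * v ((π ^ k) i) := by
  induction k generalizing v with
  | zero => simp
  | succ k ih =>
    rw [pow_succ, Module.End.mul_apply, ih, mono_apply, Finset.prod_range_succ, pow_succ' π]
    simp only [Equiv.Perm.mul_apply]
    ring

lemma mono_det {ι : Type*} [Fintype ι] [DecidableEq ι] (a : ι → F) (π : Equiv.Perm ι) :
    LinearMap.det (mono a π) = (∏ i, a i) * ((Equiv.Perm.sign π : ℤ) : F) := by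
  have h : mono a π = Matrix.toLin' (Matrix.diagonal a * π.permMatrix F) := by
    ext v i
    simp only [LinearMap.comp_apply]
    rw [Matrix.toLin'_apply, ← Matrix.mulVec_mulVec, Matrix.permMatrix_mulVec, Matrix.mulVec_diagonal, mono_apply]
    rfl
  rw [h, LinearMap.det_toLin', Matrix.det_mul, Matrix.det_diagonal, Matrix.det_permutation]

lemma mono_isom {n : ℕ} (a : Fin n → F) (ha : ∀ i, a i ^ (q + 1) = 1) (π : Equiv.Perm (Fin n)) :
    Isom (hermForm n F q) (mono a π) := by
  intro u v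
  simp only [hermForm, mono_apply]
  rw [← Equiv.sum_comp π (fun i => u i * v i ^ q)]
  refine Finset.sum_congr rfl fun i _ => ?_
  have := ha i
  rw [pow_succ'] at this
  rw [mul_pow]
  linear_combination (u (π i) * v (π i) ^ q) * this

open Fin.NatCast in
/-- A monomial isometry with `T^r = z`. -/
theorem exists_monomial {z : F} (hz : z ^ (q + 1) = 1) {r : ℕ} (hr : 0 < r) (k : ℕ) :
    ∃ T : Module.End F (Fin (k * r) → F), Isom (hermForm (k * r) F q) T ∧ T ^ r = z • 1 ∧
      LinearMap.det T = ((-1) ^ (r - 1) * z) ^ k := by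
  obtain ⟨s, rfl⟩ : ∃ s, r = s + 1 := ⟨r - 1, by omega⟩
  let e : Fin k × Fin (s + 1) ≃ Fin (k * (s + 1)) := finProdFinEquiv
  let π₀ : Equiv.Perm (Fin k × Fin (s + 1)) := Equiv.prodCongrRight fun _ => finRotate (s + 1)
  let π : Equiv.Perm (Fin (k * (s + 1))) := e.symm.trans (π₀.trans e)
  let a : Fin (k * (s + 1)) → F := fun i => if (e.symm i).2 = 0 then z else 1
  have ha : ∀ i, a i ^ (q + 1) = 1 := by
    intro i
    show (if (e.symm i).2 = 0 then z else 1) ^ (q + 1) = 1
    split_ifs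
    · exact hz
    · exact one_pow _
  have hπ₀ : ∀ x : Fin k × Fin (s + 1), π₀ x = (x.1, x.2 + 1) := by
    intro x
    show (x.1, finRotate (s + 1) x.2) = _
    rw [finRotate_apply]
  have hπ : ∀ (t : ℕ) (x : Fin k × Fin (s + 1)), (π ^ t) (e x) = e (x.1, x.2 + (t : Fin (s + 1))) := by
    intro t
    induction t with
    | zero => intro x; simp
    | succ t ih =>
      intro x
      rw [pow_succ, Equiv.Perm.mul_apply]
      have h1 : π (e x) = e (π₀ x) := by
        show e (π₀ (e.symm (e x))) = _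
        rw [e.symm_apply_apply]
      rw [h1, hπ₀, ih]
      push_cast
      rw [add_assoc, add_comm (1 : Fin (s + 1))]
  refine ⟨mono a π, mono_isom a ha π, ?_, ?_⟩
  · apply LinearMap.ext
    intro v
    funext i
    obtain ⟨x, rfl⟩ := e.surjective i
    rw [mono_pow, hπ]
    have h2 : ((s + 1 : ℕ) : Fin (s + 1)) = 0 := by simp
    rw [h2, add_zero]
    have h3 : ∏ t ∈ Finset.range (s + 1), a ((π ^ t) (e x)) = z := by
      rw [Finset.prod_range]
      have h4 : ∀ t : Fin (s + 1), a ((π ^ (t : ℕ)) (e x)) = if t = -x.2 then z else 1 := by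
        intro t
        rw [hπ]
        show (if (e.symm (e (x.1, x.2 + ((t : ℕ) : Fin (s + 1))))).2 = 0 then z else 1) = _
        rw [e.symm_apply_apply, Fin.cast_val_eq_self]
        simp only
        congr 1
        rw [eq_iff_iff]
        constructor
        · intro h; exact eq_neg_of_add_eq_zero_right h
        · intro h; rw [h, add_neg_cancel]
      rw [Finset.prod_congr rfl fun t _ => h4 t]
      simp
    rw [h3]
    rfl
  · rw [mono_det]
    have h5 : ∏ i, a i = z ^ k := by
      rw [← Equiv.prod_comp e]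
      have : ∀ x : Fin k × Fin (s + 1), a (e x) = if x.2 = 0 then z else 1 := by
        intro x
        show (if (e.symm (e x)).2 = 0 then z else 1) = _
        rw [e.symm_apply_apply]
      rw [Finset.prod_congr rfl fun x _ => this x, Fintype.prod_prod_type]
      simp
    have h6 : Equiv.Perm.sign π = ((-1) ^ s) ^ k := by
      have h7 : Equiv.Perm.sign π = Equiv.Perm.sign π₀ := Equiv.Perm.sign_symm_trans_trans π₀ e
      rw [h7, Equiv.Perm.sign_prodCongrRight]
      simp
    rw [h5, h6]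
    push_cast
    rw [mul_pow, mul_comm]

end mono

end Cfsg.Agent.H951
end
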